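import Groth.Agent.MdlInter.Euler
import Groth.Agent.DerBC7.EulerModel
import Groth.Agent.DerBC7.SplitPush
import Groth.Agent.KZ.LFRes
import Groth.Agent.CurveBC.Geometry

/-!
# The Euler characteristic of the closed fibre and the genus of the generic fibre
-/

set_option linter.style.haveILetI false
set_option linter.unusedSectionVars false
set_option backward.isDefEq.respectTransparency false
set_option backward.isDefEq.respectTransparency.types false
set_option maxHeartbeats 1000000

universe u

open CategoryTheory CategoryTheory.Limits AlgebraicGeometry TopologicalSpace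

noncomputable section

namespace Groth.Agent.MdlInter

open Groth.Agent

variable {R : Type u} [CommRing R] [IsDomain R] [IsDiscreteValuationRing R]
  {C X : Scheme.{u}} {f : C ⟶ Spec (CommRingCat.of (FractionRing R))} {p : X ⟶ Spec (CommRingCat.of R)}

attribute [local instance] GeomField.globalAlgebra in
theorem finrank_h0_of_isIso {k : Type u} [Field k] {Y : Scheme.{u}} (q : Y ⟶ Spec (CommRingCat.of k))
    (hq : IsIso q.appTop) :
    letI : Y.Over (Spec (CommRingCat.of k)) := ⟨q⟩
    Module.finrank k (Coh.HH Y (Coh.structureModule Y) 0) = 1 := by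
  letI : Y.Over (Spec (CommRingCat.of k)) := ⟨q⟩
  rw [GeomField.finrank_HH_zero k Y]
  have hb : Function.Bijective (algebraMap k Γ(Y, ⊤)) :=
    (GrpSchLib.AntiAffine.bijective_appTop_iff _).2 (ConcreteCategory.bijective_of_isIso q.appTop)
  exact (LinearEquiv.ofBijective (Algebra.linearMap k Γ(Y, ⊤)) hb).finrank_eq.symm.trans (Module.finrank_self k)

/-- The ideal of the closed fibre, on `X`. -/
abbrev sfI (p : X ⟶ Spec (CommRingCat.of R)) : X.IdealSheafData := Models.specialFibreIdeal R (Over.mk p)

/-- The map from the base ring to a residue field of the spectrum. -/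
def toResField (R : Type u) [CommRing R] (x : Spec (CommRingCat.of R)) :
    CommRingCat.of R ⟶ (Spec (CommRingCat.of R)).residueField x :=
  CommRingCat.ofHom (algebraMap R x.asIdeal.ResidueField) ≫ (Scheme.Spec.residueFieldIso (CommRingCat.of R) x).inv

theorem map_toResField (x : Spec (CommRingCat.of R)) :
    Spec.map (toResField R x) = (Spec (CommRingCat.of R)).fromSpecResidueField x := by
  rw [← Scheme.Spec.map_residueFieldIso_inv_eq_fromSpecResidueField, toResField, Spec.map_comp]

theorem ker_toResField (x : Spec (CommRingCat.of R)) : RingHom.ker (toResField R x).hom = x.asIdeal := by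
  ext a
  rw [RingHom.mem_ker, ← Ideal.algebraMap_residueField_eq_zero (I := x.asIdeal)]
  exact (map_eq_zero_iff (Scheme.Spec.residueFieldIso (CommRingCat.of R) x).inv.hom
    (ConcreteCategory.bijective_of_isIso (Scheme.Spec.residueFieldIso (CommRingCat.of R) x).inv).1)

theorem surjective_toResField :
    Function.Surjective (toResField R (IsLocalRing.closedPoint R)).hom :=
  (ConcreteCategory.bijective_of_isIso (Scheme.Spec.residueFieldIso (CommRingCat.of R) _).inv).2.comp
    (Ideal.algebraMap_residueField_surjective (IsLocalRing.maximalIdeal R))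

theorem ker_fromSpecResidueField :
    ((Spec (CommRingCat.of R)).fromSpecResidueField (IsLocalRing.closedPoint R)).ker =
      Curv2.idealSheaf R (IsLocalRing.maximalIdeal R) := by
  rw [← map_toResField, Scheme.ker_of_isAffine, Curv2.idealSheaf]
  congr 1
  ext a
  let φ := toResField R (IsLocalRing.closedPoint R)
  have hn := ConcreteCategory.congr_hom (Scheme.ΓSpecIso_naturality φ) a
  simp only [ConcreteCategory.comp_apply] at hn
  rw [RingHom.mem_ker, ← map_eq_zero_iff _ (ConcreteCategory.bijective_of_isIso
    (Scheme.ΓSpecIso ((Spec (CommRingCat.of R)).residueField (IsLocalRing.closedPoint R))).hom).1,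
    show IsLocalRing.maximalIdeal R = RingHom.ker φ.hom from (ker_toResField (IsLocalRing.closedPoint R)).symm]
  constructor
  · intro h
    refine (Ideal.mem_map_iff_of_surjective _ (ConcreteCategory.bijective_of_isIso (Scheme.ΓSpecIso (CommRingCat.of R)).inv).2).2
      ⟨(Scheme.ΓSpecIso (CommRingCat.of R)).hom a, hn.symm.trans h, ?_⟩
    exact Iso.hom_inv_id_apply _ _
  · intro h
    obtain ⟨b, hb, rfl⟩ := (Ideal.mem_map_iff_of_surjective _
      (ConcreteCategory.bijective_of_isIso (Scheme.ΓSpecIso (CommRingCat.of R)).inv).2).1 h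
    refine hn.trans ?_
    rw [Iso.inv_hom_id_apply]
    exact hb

theorem specMap_resHom (x : Spec (CommRingCat.of R)) :
    Spec.map (CommRingCat.ofHom (toResField R x).hom) = (Spec (CommRingCat.of R)).fromSpecResidueField x :=
  map_toResField x

theorem specMap_comp {A B D : Type u} [CommRing A] [CommRing B] [CommRing D] (φ : A →+* B) (ψ : B →+* D) :
    Spec.map (CommRingCat.ofHom ψ) ≫ Spec.map (CommRingCat.ofHom φ) = Spec.map (CommRingCat.ofHom (ψ.comp φ)) := by
  rw [← Spec.map_comp]
  rfl

theorem toGlobal_comp {A B : Type u} [CommRing A] [CommRing B] {Y : Scheme.{u}} (q : Y ⟶ Spec (CommRingCat.of B))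
    (φ : A →+* B) (a : A) : Coh.toGlobal (q ≫ Spec.map (CommRingCat.ofHom φ)) a = Coh.toGlobal q (φ a) := by
  show (q ≫ Spec.map (CommRingCat.ofHom φ)).appTop ((Scheme.ΓSpecIso (CommRingCat.of A)).inv a) =
    q.appTop ((Scheme.ΓSpecIso (CommRingCat.of B)).inv (φ a))
  simp only [Scheme.Hom.comp_appTop, ConcreteCategory.comp_apply]
  exact congrArg q.appTop (ConcreteCategory.congr_hom (Scheme.ΓSpecIso_inv_naturality (CommRingCat.ofHom φ)) a).symm

theorem toGlobal_comp_left {A : Type u} [CommRing A] {Z Y : Scheme.{u}} (g : Z ⟶ Y)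
    (q : Y ⟶ Spec (CommRingCat.of A)) (a : A) : Coh.toGlobal (g ≫ q) a = g.appTop (Coh.toGlobal q a) := by
  show (g ≫ q).appTop ((Scheme.ΓSpecIso (CommRingCat.of A)).inv a) = _
  simp only [Scheme.Hom.comp_appTop, ConcreteCategory.comp_apply]
  rfl

variable (p) in
theorem ker_fiberι : (p.fiberι (IsLocalRing.closedPoint R)).ker = sfI p := by
  haveI : IsClosedImmersion ((Spec (CommRingCat.of R)).fromSpecResidueField (IsLocalRing.closedPoint R)) := by
    rw [← map_toResField]
    exact IsClosedImmersion.spec_of_surjective _ surjective_toResField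
  refine (Scheme.IdealSheafData.ker_fst_of_isClosedImmersion _ p).trans ?_
  rw [ker_fromSpecResidueField]
  rfl

theorem isClosedImmersion_fiberι : IsClosedImmersion (p.fiberι (IsLocalRing.closedPoint R)) := by
  haveI : IsClosedImmersion ((Spec (CommRingCat.of R)).fromSpecResidueField (IsLocalRing.closedPoint R)) := by
    rw [← map_toResField]
    exact IsClosedImmersion.spec_of_surjective _ surjective_toResField
  exact MorphismProperty.pullback_fst _ _ inferInstance

theorem length_HH_specialFibre [IsProper p] [X.Over (Spec (CommRingCat.of R))]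
    (hp : (X ↘ Spec (CommRingCat.of R)) = p) (i : ℕ) :
    Module.length R (Coh.HH X (ClSub.quotMod (sfI p)) i) =
      PerfAux.betti p (Coh.structureModule X) (IsLocalRing.closedPoint R) i := by
  let y : Spec (CommRingCat.of R) := IsLocalRing.closedPoint R
  haveI := isClosedImmersion_fiberι (p := p)
  letI : (p.fiber y).Over (Spec (CommRingCat.of ((Spec (CommRingCat.of R)).residueField y))) :=
    ⟨p.fiberToSpecResidueField y⟩
  haveI : IsProper (p.fiber y ↘ Spec (CommRingCat.of ((Spec (CommRingCat.of R)).residueField y))) :=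
    MorphismProperty.pullback_snd (P := @IsProper) p _ inferInstance
  haveI := CurveCohLib.isNoetherian_of_proper (k := (Spec (CommRingCat.of R)).residueField y) (X := p.fiber y)
  let ρk := Coh.toGlobal (p.fiber y ↘ Spec (CommRingCat.of ((Spec (CommRingCat.of R)).residueField y)))
  let ρ' : R →+* Coh.Γtop (p.fiber y) := ρk.comp (toResField R y).hom
  have hρ : ∀ a, ρ' a = (p.fiberι y).appTop (Coh.toGlobal (X ↘ Spec (CommRingCat.of R)) a) := by
    intro a
    have hw : p.fiberι y ≫ p = p.fiberToSpecResidueField y ≫ Spec.map (CommRingCat.ofHom (toResField R y).hom) :=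
      pullback.condition.trans (congrArg (p.fiberToSpecResidueField y ≫ ·) (specMap_resHom y).symm)
    rw [hp, ← toGlobal_comp_left, hw]
    exact (toGlobal_comp _ _ a).symm
  obtain ⟨q⟩ := ExtShX.nonempty_push_iso_quotMod (p.fiberι y)
  rw [ker_fiberι] at q
  rw [(OmegaPn.HHiso R q i).length_eq]
  obtain ⟨e⟩ := QCoh.HH_push_linear (p.fiberι y) (Coh.toGlobal (X ↘ Spec (CommRingCat.of R))) ρ' hρ
    (PnCoh.isQCoh_structureModule _) i
  haveI := CurveCohLib.finite_HH (k := (Spec (CommRingCat.of R)).residueField y)
    (QCoh.isCoh_structureModule' (X := p.fiber y)) i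
  letI := QCoh.modHH ρ' (Coh.structureModule (p.fiber y)) i
  refine e.length_eq.symm.trans ?_
  rw [IntThLib.length_eq_of_surjective_map (toResField R y).hom surjective_toResField
    (Coh.HH (p.fiber y) (Coh.structureModule (p.fiber y)) i) (fun r m => rfl)]
  rw [Module.length_eq_finrank, PerfAux.betti,
    ← (CurveCohLib.hhEquiv (k := (Spec (CommRingCat.of R)).residueField y) (CurveBC.unitIso (p.fiberι y)) i).finrank_eq]

theorem eulerChar_closedPoint {n : ℕ} {Γ : Fin n → ArSurf.VertComp R (Over.mk p)} (S : Setting p Γ)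
    (L : Fin n → X.Modules) (hL : ∀ i, ClSub.IsInverseOf (L i) (ClSub.idealMod (comp Γ i)))
    [IsProper p] [X.Over (Spec (CommRingCat.of R))] (hp : (X ↘ Spec (CommRingCat.of R)) = p) :
    PerfAux.eulerChar p (Coh.structureModule X) (IsLocalRing.closedPoint R) =
      chiLen R (ClSub.quotMod (sfI p)) := by
  have hgood := (S.good_quotMod L hL hp fun i => Models.mult R (Over.mk p) (Γ i)).1
  rw [show (∏ i, comp Γ i ^ Models.mult R (Over.mk p) (Γ i)) = sfI p from S.specialFibreIdeal_eq.symm] at hgood
  have hb : ∀ i, 2 ≤ i → PerfAux.betti p (Coh.structureModule X) (IsLocalRing.closedPoint R) i = 0 := fun i hi => by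
    haveI := (hgood i).2 hi
    have h := length_HH_specialFibre hp i
    rw [Module.length_eq_zero] at h
    exact_mod_cast h.symm
  refine Eq.trans ?_ (GoodLen.of_length_eq R _ _ (length_HH_specialFibre hp) hb).2.symm
  rw [PerfAux.eulerChar,
    finsum_eq_finsetSum_of_support_subset (s := Finset.range 2) _ fun i hi => by
      simp only [Function.mem_support, ne_eq] at hi
      simp only [Finset.coe_range, Set.mem_Iio]
      by_contra h
      exact hi (by rw [hb i (by omega), Nat.cast_zero, mul_zero])]
  rw [Finset.sum_range_succ, Finset.sum_range_succ, Finset.sum_range_zero]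
  ring

theorem finrank_generic {K' : Type u} [Field K'] {g : C ⟶ X}
    (hg : IsPullback g f p (Spec.map (CommRingCat.ofHom (algebraMap R (FractionRing R)))))
    [C.Over (Spec (CommRingCat.of (FractionRing R)))] (hf : (C ↘ Spec (CommRingCat.of (FractionRing R))) = f)
    [CompactSpace C] [QuasiSeparatedSpace C]
    (φ : R →+* K') (hinj : Function.Injective φ) {F : Scheme.{u}} [F.Over (Spec (CommRingCat.of K'))] (ι : F ⟶ X)
    (hout : IsPullback ι (F ↘ Spec (CommRingCat.of K')) p (Spec.map (CommRingCat.ofHom φ))) (i : ℕ) :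
    Module.finrank K' (Coh.HH F ((Scheme.Modules.pullback ι).obj (Coh.structureModule X)) i) =
      Module.finrank (FractionRing R) (Coh.HH C (Coh.structureModule C) i) := by
  let α : FractionRing R →+* K' := IsFractionRing.lift hinj
  letI : Algebra (FractionRing R) K' := α.toAlgebra
  have hα : Spec.map (CommRingCat.ofHom α) ≫ Spec.map (CommRingCat.ofHom (algebraMap R (FractionRing R))) =
      Spec.map (CommRingCat.ofHom φ) := by
    rw [specMap_comp, show α.comp (algebraMap R (FractionRing R)) = φ from
      RingHom.ext fun a => IsFractionRing.lift_algebraMap hinj a]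
  rw [← hα] at hout
  subst hf
  let g' : F ⟶ C := hg.lift ι ((F ↘ Spec (CommRingCat.of K')) ≫ Spec.map (CommRingCat.ofHom α))
    (hout.w.trans (Category.assoc _ _ _).symm)
  have hpb : IsPullback g' (F ↘ Spec (CommRingCat.of K')) (C ↘ Spec (CommRingCat.of (FractionRing R)))
      (Spec.map (CommRingCat.ofHom (algebraMap (FractionRing R) K'))) :=
    IsPullback.of_right (by rw [hg.lift_fst]; exact hout) (hg.lift_snd _ _ _) hg
  rw [(CurveCohLib.hhEquiv (k := K') (CurveBC.unitIso ι) i).finrank_eq]
  exact CurveBC.finrank_hh_unit (FractionRing R) K' g' hpb i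

theorem eulerChar_generic (hC : Curve.IsSmoothProperCurve (FractionRing R) C f) (hH0 : IsIso f.appTop)
    (hX : Models.IsRegularProperModel R X p C f) :
    PerfAux.eulerChar p (Coh.structureModule X) (⊥ : PrimeSpectrum R) =
      1 - (Models.curveGenus (FractionRing R) C f : ℤ) := by
  haveI := hX.2.1
  obtain ⟨g, hg⟩ := hX.1.2.2.2
  let η : Spec (CommRingCat.of R) := (⊥ : PrimeSpectrum R)
  have hinj : Function.Injective (toResField R η).hom :=
    (RingHom.injective_iff_ker_eq_bot _).2 ((ker_toResField η).trans rfl)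
  letI : C.Over (Spec (CommRingCat.of (FractionRing R))) := ⟨f⟩
  letI : (p.fiber η).Over (Spec (CommRingCat.of ((Spec (CommRingCat.of R)).residueField η))) :=
    ⟨p.fiberToSpecResidueField η⟩
  haveI : IsProper (C ↘ Spec (CommRingCat.of (FractionRing R))) := hC.1
  haveI := CurveCohLib.isNoetherian_of_proper (k := FractionRing R) (X := C)
  haveI : C.IsSeparated := AmpleVan.isSeparated_of_proper (A := FractionRing R)
  have hout : IsPullback (p.fiberι η) (p.fiberToSpecResidueField η) p
      (Spec.map (CommRingCat.ofHom (toResField R η).hom)) := by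
    rw [specMap_resHom]
    exact IsPullback.of_hasPullback p _
  have hb : ∀ i, PerfAux.betti p (Coh.structureModule X) η i =
      Module.finrank (FractionRing R) (Coh.HH C (Coh.structureModule C) i) := fun i =>
    finrank_generic hg rfl (toResField R η).hom hinj (p.fiberι η) hout i
  show PerfAux.eulerChar p (Coh.structureModule X) η = _
  rw [PerfAux.eulerChar, finsum_eq_finsetSum_of_support_subset (s := Finset.range 2) _ fun i hi => by
    simp only [Function.mem_support, ne_eq] at hi
    simp only [Finset.coe_range, Set.mem_Iio]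
    by_contra h
    haveI := Snapper.subsingleton_HH_of_dim_le (d := 1) (X := C) (by rw [Nat.cast_one]; exact hC.2.2.2.le)
      (PnCoh.isQCoh_structureModule C) (show 1 < i by omega)
    exact hi (by rw [hb, Module.finrank_zero_of_subsingleton, Nat.cast_zero, mul_zero])]
  rw [Finset.sum_range_succ, Finset.sum_range_succ, Finset.sum_range_zero, hb 0, hb 1]
  rw [show Module.finrank (FractionRing R) (Coh.HH C (Coh.structureModule C) 0) = 1 from
    finrank_h0_of_isIso f hH0]
  show _ = (1 : ℤ) - ((Module.finrank (FractionRing R) (Coh.HH C (Coh.structureModule C) 1) : ℕ) : ℤ)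
  ring

theorem eulerChar_closed_eq_generic (hX : Models.IsRegularProperModel R X p C f) :
    PerfAux.eulerChar p (Coh.structureModule X) (IsLocalRing.closedPoint R) =
      PerfAux.eulerChar p (Coh.structureModule X) (⊥ : PrimeSpectrum R) := by
  haveI := hX.2.1
  haveI := hX.1.1
  haveI : IsLocallyNoetherian X := LocallyOfFiniteType.isLocallyNoetherian p
  haveI : PreconnectedSpace ↥(Spec (CommRingCat.of R)) :=
    inferInstanceAs (PreconnectedSpace (PrimeSpectrum R))
  haveI : LocallyOfFinitePresentation p := inferInstance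
  exact (DerBC7.isLocallyConstant_eulerChar (PnCoh.isQCoh_structureModule X)
    (KZ.LFRes.isFP_of_isCoh QCoh.isCoh_structureModule')
    (DerBC7.isFlatOver_structureModule p)).apply_eq_of_preconnectedSpace _ _

namespace Setting

variable {n : ℕ} {Γ : Fin n → ArSurf.VertComp R (Over.mk p)} (S : Setting p Γ)
  (L : Fin n → X.Modules) (hL : ∀ i, ClSub.IsInverseOf (L i) (ClSub.idealMod (comp Γ i)))
include S hL

/-- The Euler characteristic of a divisor on the closed fibre. -/
theorem two_mul_chiLen [X.Over (Spec (CommRingCat.of R))] [IsProper p] (hp : (X ↘ Spec (CommRingCat.of R)) = p)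
    (a : Fin n → ℕ) :
    2 * chiLen R (ClSub.quotMod (∏ j, comp Γ j ^ a j)) =
      -(∑ i, ∑ j, (a i : ℤ) * (a j : ℤ) * ArSurf.inter R (Over.mk p) (L j) (Γ i)) +
        ∑ i, (a i : ℤ) * (ArSurf.inter R (Over.mk p) (L i) (Γ i) +
          2 * chiK (Γ i) (Coh.structureModule (Γ i).curve.left)) := by
  classical
  have hone : chiLen R (ClSub.quotMod (1 : X.IdealSheafData)) = 0 := by
    refine (GoodLen.of_isZero R (CurveCohLib.isZero_of_subsingleton_stalks fun x => ?_)).2
    refine ParShLib.subsingleton_stalk_quotMod _ ?_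
    rw [Scheme.IdealSheafData.one_eq_top, Scheme.IdealSheafData.support_top]
    exact fun h => h
  suffices ∀ (N : ℕ) (a : Fin n → ℕ), ∑ j, a j = N → 2 * chiLen R (ClSub.quotMod (∏ j, comp Γ j ^ a j)) =
      -(∑ i, ∑ j, (a i : ℤ) * (a j : ℤ) * ArSurf.inter R (Over.mk p) (L j) (Γ i)) +
        ∑ i, (a i : ℤ) * (ArSurf.inter R (Over.mk p) (L i) (Γ i) +
          2 * chiK (Γ i) (Coh.structureModule (Γ i).curve.left)) from this _ a rfl
  intro N
  induction N with
  | zero =>
    intro b hb
    have : ∀ j, b j = 0 := fun j => Finset.sum_eq_zero_iff.1 hb j (Finset.mem_univ j)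
    simp only [this, pow_zero, Finset.prod_const_one, hone]
    simp
  | succ N ih =>
    intro b hb
    obtain ⟨k, -, hk⟩ := Finset.exists_ne_zero_of_sum_ne_zero (show ∑ j, b j ≠ 0 by omega)
    let b' : Fin n → ℕ := fun j => if j = k then b j - 1 else b j
    have hbb : ∀ j, b j = b' j + if j = k then 1 else 0 := fun j => by
      by_cases hj : j = k
      · subst hj; simp [b']; omega
      · simp [b', hj]
    have hsum : ∑ j, b' j = N := by
      have h := hb
      simp only [hbb, Finset.sum_add_distrib, Finset.sum_ite_eq', Finset.mem_univ, if_true] at h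
      omega
    have hstep := ((S.good_quotMod L hL hp b').2 k).2
    have h0 := ih b' hsum
    simp only [hbb]
    rw [hstep, mul_add, h0]
    push_cast
    simp only [add_mul, mul_add, Finset.sum_add_distrib, ite_mul, mul_ite, one_mul, mul_one, zero_mul, mul_zero,
      Finset.sum_ite_irrel, Finset.sum_const_zero, Finset.sum_ite_eq', Finset.mem_univ, if_true]
    simp only [fun j => S.inter_comm L hL k j]
    ring

end Setting

theorem genus_formula (hC : Curve.IsSmoothProperCurve (FractionRing R) C f) (hH0 : IsIso f.appTop)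
    (hX : Models.IsRegularProperModel R X p C f) {n : ℕ} {Γ : Fin n → ArSurf.VertComp R (Over.mk p)}
    (hΓ : Models.IsComponentList R (Over.mk p) Γ)
    (L : Fin n → X.Modules) (hL : ∀ i, ClSub.IsInverseOf (L i) (ClSub.idealMod (comp Γ i))) :
    2 * (1 - (Models.curveGenus (FractionRing R) C f : ℤ)) =
      ∑ i, (Models.mult R (Over.mk p) (Γ i) : ℤ) * (ArSurf.inter R (Over.mk p) (L i) (Γ i) +
        2 * chiK (Γ i) (Coh.structureModule (Γ i).curve.left)) := by
  haveI := hX.2.1
  letI : X.Over (Spec (CommRingCat.of R)) := ⟨p⟩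
  have S := setting_of_model hX hΓ
  have h := S.two_mul_chiLen L hL (show (X ↘ Spec (CommRingCat.of R)) = p from rfl)
    (fun i => Models.mult R (Over.mk p) (Γ i))
  rw [show (∏ i, comp Γ i ^ Models.mult R (Over.mk p) (Γ i)) = sfI p from S.specialFibreIdeal_eq.symm,
    ← eulerChar_closedPoint S L hL rfl, eulerChar_closed_eq_generic hX, eulerChar_generic hC hH0 hX] at h
  rw [h]
  have hz : ∑ i, ∑ j, (Models.mult R (Over.mk p) (Γ i) : ℤ) * (Models.mult R (Over.mk p) (Γ j) : ℤ) *
      ArSurf.inter R (Over.mk p) (L j) (Γ i) = 0 := Finset.sum_eq_zero fun i _ => by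
    simp only [mul_assoc]
    rw [← Finset.mul_sum, S.sum_mult_inter L hL i, mul_zero]
  rw [hz, neg_zero, zero_add]

end Groth.Agent.MdlInter
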