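import Groth.Agent.MdlInter.NumType
import Groth.Agent.CurveEmbed.Line
import Groth.Agent.PnPic.Ufd
import Groth.Agent.CurveBC.Geometry
import Groth.Agent.S4466
import Groth.Agent.S7810
import Groth.Agent.H23.RedSub

/-!
# Exceptional components of the closed fibre
-/

set_option linter.style.haveILetI false
set_option linter.unusedSectionVars false
set_option backward.isDefEq.respectTransparency false
set_option backward.isDefEq.respectTransparency.types false
set_option maxHeartbeats 1000000

universe u

open CategoryTheory CategoryTheory.Limits AlgebraicGeometry TopologicalSpace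
open Groth.Agent.H23.PicMul
open scoped Groth.Agent.H23.PicMul

noncomputable section

namespace Groth.Agent.MdlInter

open Groth.Agent

theorem ext_of_toGlobal {A : Type u} [CommRing A] {Y : Scheme.{u}} {q q' : Y ⟶ Spec (CommRingCat.of A)}
    (h : ∀ a, Coh.toGlobal q a = Coh.toGlobal q' a) : q = q' := by
  refine ext_of_isAffine (CommRingCat.hom_ext (RingHom.ext fun s => ?_))
  obtain ⟨a, rfl⟩ := (ConcreteCategory.bijective_of_isIso (Scheme.ΓSpecIso (CommRingCat.of A)).inv).2 s
  exact h a

theorem toGlobal_toSpecΓ (Y : Scheme.{u}) (b : Γ(Y, ⊤)) :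
    Coh.toGlobal (A := Γ(Y, ⊤)) Y.toSpecΓ b = b := by
  show Y.toSpecΓ.appTop ((Scheme.ΓSpecIso Γ(Y, ⊤)).inv b) = b
  rw [Scheme.toSpecΓ_appTop]
  exact Iso.inv_hom_id_apply (Scheme.ΓSpecIso Γ(Y, ⊤)) b

section Change

variable {k K : Type u} [Field k] [Field K] (φ : k →+* K) {Y : Scheme.{u}} [Y.Over (Spec (CommRingCat.of k))]
  [Y.Over (Spec (CommRingCat.of K))]
  (h : (Y ↘ Spec (CommRingCat.of k)) = (Y ↘ Spec (CommRingCat.of K)) ≫ Spec.map (CommRingCat.ofHom φ))

/-- The degree of an extension. -/
def extDeg : ℕ := letI := φ.toAlgebra; Module.finrank k K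

include h

theorem finrank_HH_change (M : Y.Modules) (i : ℕ) :
    Module.finrank k (Coh.HH Y M i) = extDeg φ * Module.finrank K (Coh.HH Y M i) := by
  letI := φ.toAlgebra
  haveI : IsScalarTower k K (Coh.HH Y M i) := IsScalarTower.of_algebraMap_smul fun r x => by
    show (Coh.toGlobal (Y ↘ Spec (CommRingCat.of K)) (φ r)) • x = (Coh.toGlobal (Y ↘ Spec (CommRingCat.of k)) r) • x
    rw [h, toGlobal_comp]
  exact (Module.finrank_mul_finrank k K _).symm

theorem eulerCharLE_change (M : Y.Modules) :
    FGA.eulerCharLE k Y M 1 = (extDeg φ : ℤ) * FGA.eulerCharLE K Y M 1 := by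
  unfold FGA.eulerCharLE
  rw [Finset.mul_sum]
  refine Finset.sum_congr rfl fun i _ => ?_
  rw [finrank_HH_change φ h M i]
  push_cast
  ring

end Change

section Line

variable (K : Type u) [Field K]

theorem eulerCharLE_line (d : ℤ) :
    FGA.eulerCharLE K (CohB1.ProjSpace 1 K) (Twist.twistProjSpace 1 K d) 1 = d + 1 := by
  unfold FGA.eulerCharLE
  refine (S4466.result K 1 one_pos d).trans ?_
  rw [Ring.choose_one_right]
  push_cast
  ring

variable {G : Scheme.{u}} [G.Over (Spec (CommRingCat.of K))] [IsProper (G ↘ Spec (CommRingCat.of K))]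
  (e : CohB1.ProjSpace 1 K ≅ G) (he : e.hom ≫ (G ↘ Spec (CommRingCat.of K)) = CohB1.ProjSpace.toSpec 1 K)
include he

theorem finrank_line {M : G.Modules} (hM : Coh.IsQCoh M) (i : ℕ) :
    Module.finrank K (Coh.HH G M i) =
      Module.finrank K (Coh.HH (CohB1.ProjSpace 1 K) ((Scheme.Modules.pullback e.hom).obj M) i) := by
  haveI := CurveCohLib.isNoetherian_of_proper (k := K) (X := G)
  haveI : IsIso (Spec.map (CommRingCat.ofHom (algebraMap K K))) := by
    rw [show CommRingCat.ofHom (algebraMap K K) = 𝟙 (CommRingCat.of K) from rfl]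
    infer_instance
  have hpb : IsPullback e.hom ((CohB1.ProjSpace 1 K) ↘ Spec (CommRingCat.of K)) (G ↘ Spec (CommRingCat.of K))
      (Spec.map (CommRingCat.ofHom (algebraMap K K))) := by
    refine IsPullback.of_horiz_isIso ⟨?_⟩
    rw [show CommRingCat.ofHom (algebraMap K K) = 𝟙 (CommRingCat.of K) from rfl, Spec.map_id, Category.comp_id]
    exact he
  exact (CurveBC.finrank_hh K K e.hom hpb M hM i).symm

theorem line_structure :
    Module.finrank K (Coh.HH G (Coh.structureModule G) 0) = 1 ∧
    Module.finrank K (Coh.HH G (Coh.structureModule G) 1) = 0 ∧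
    FGA.eulerCharLE K G (Coh.structureModule G) 1 = 1 := by
  obtain ⟨h0, h1⟩ := S7810.projLine_facts K
  have hh : ∀ i, Module.finrank K (Coh.HH G (Coh.structureModule G) i) =
      Module.finrank K (Coh.HH (CohB1.ProjSpace 1 K) (Coh.structureModule (CohB1.ProjSpace 1 K)) i) := fun i =>
    (finrank_line K e he (PnCoh.isQCoh_structureModule G) i).trans
      (CurveCohLib.hhEquiv (k := K) (CurveBC.unitIso e.hom) i).finrank_eq
  have a0 := (hh 0).trans h0
  have a1 : Module.finrank K (Coh.HH G (Coh.structureModule G) 1) = 0 := (hh 1).trans h1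
  exact ⟨a0, a1, by simp [FGA.eulerCharLE, Finset.sum_range_succ, a0, a1]⟩

theorem eulerCharLE_of_line {M : G.Modules} (hM : Coh.IsQCoh M) {d : ℤ}
    (ed : Nonempty ((Scheme.Modules.pullback e.hom).obj M ≅ Twist.twistProjSpace 1 K d)) :
    FGA.eulerCharLE K G M 1 = d + 1 := by
  obtain ⟨ed⟩ := ed
  rw [← eulerCharLE_line K d]
  refine Finset.sum_congr rfl fun i _ => ?_
  rw [finrank_line K e he hM i, (CurveCohLib.hhEquiv (k := K) ed i).finrank_eq]

end Line

variable {R : Type u} [CommRing R] [IsDomain R] [IsDiscreteValuationRing R]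
  {X : Scheme.{u}} {p : X ⟶ Spec (CommRingCat.of R)} [IsProper p]

theorem exc_of_genus_zero (G : ArSurf.VertComp R (Over.mk p))
    (hI : BlowUp.IsEffCartierIdeal (iotaX G).ker) (hI' : PicF.IsInvertible (ClSub.idealMod (iotaX G).ker))
    (K : Type u) [Field K] (qK : G.curve.left ⟶ Spec (CommRingCat.of K)) (φ : IsLocalRing.ResidueField R →+* K)
    (hφ : (G.curve.left ↘ Spec (CommRingCat.of (IsLocalRing.ResidueField R))) = qK ≫ Spec.map (CommRingCat.ofHom φ))
    (hiso : IsIso qK.appTop) (hh : Models.h1 R (Over.mk p) G = 0)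
    (hint : FGA.eulerCharLE (IsLocalRing.ResidueField R) G.curve.left
          ((Scheme.Modules.pullback (iotaX G)).obj (ClSub.idealMod (iotaX G).ker)) 1 -
        FGA.eulerCharLE (IsLocalRing.ResidueField R) G.curve.left (Coh.structureModule G.curve.left) 1 =
          (Models.wdeg R (Over.mk p) G : ℤ)) :
    Models.IsExcCurve (iotaX G) := by
  haveI : IsLocallyNoetherian X := LocallyOfFiniteType.isLocallyNoetherian p
  haveI hpk : IsProper (G.curve.left ↘ Spec (CommRingCat.of (IsLocalRing.ResidueField R))) := isProper_curve G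
  have hMi := PicClLib.isInvertible_pullback (iotaX G) hI'
  have hMq : Coh.IsQCoh ((Scheme.Modules.pullback (iotaX G)).obj (ClSub.idealMod (iotaX G).ker)) :=
    QCoh.isQCoh_pullback (iotaX G) (AmpleVan.isCoh_invertible hI').1
  have hw : Models.wdeg R (Over.mk p) G =
      Module.finrank (IsLocalRing.ResidueField R) (Coh.HH G.curve.left (Coh.structureModule G.curve.left) 0) := rfl
  have hh1 : Models.h1 R (Over.mk p) G =
      Module.finrank (IsLocalRing.ResidueField R) (Coh.HH G.curve.left (Coh.structureModule G.curve.left) 1) := rfl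
  have hwpos := wdeg_pos G
  letI : G.curve.left.Over (Spec (CommRingCat.of K)) := ⟨qK⟩
  haveI : IsProper (G.curve.left ↘ Spec (CommRingCat.of K)) := by
    haveI : IsProper ((G.curve.left ↘ Spec (CommRingCat.of K)) ≫ Spec.map (CommRingCat.ofHom φ)) := by
      rw [show (G.curve.left ↘ Spec (CommRingCat.of K)) = qK from rfl, ← hφ]; exact hpk
    exact IsProper.of_comp _ (Spec.map (CommRingCat.ofHom φ))
  haveI := CurveCohLib.isNoetherian_of_proper (k := K) (X := G.curve.left)
  have a0 : Module.finrank K (Coh.HH G.curve.left (Coh.structureModule G.curve.left) 0) = 1 :=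
    finrank_h0_of_isIso qK hiso
  have hd : Models.wdeg R (Over.mk p) G = extDeg φ := by
    rw [hw, finrank_HH_change φ hφ, a0, mul_one]
  have a1 : Module.finrank K (Coh.HH G.curve.left (Coh.structureModule G.curve.left) 1) = 0 := by
    rw [hh1, finrank_HH_change φ hφ, mul_eq_zero] at hh
    exact hh.resolve_left (by omega)
  have hdegK : FGA.eulerCharLE K G.curve.left
      ((Scheme.Modules.pullback (iotaX G)).obj (ClSub.idealMod (iotaX G).ker)) 1 -
        FGA.eulerCharLE K G.curve.left (Coh.structureModule G.curve.left) 1 = 1 := by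
    rw [eulerCharLE_change φ hφ, eulerCharLE_change φ hφ, hd, ← mul_sub] at hint
    exact (mul_eq_left₀ (by exact_mod_cast (show extDeg φ ≠ 0 by omega))).1 hint
  haveI : Subsingleton (Coh.HH G.curve.left (Coh.structureModule G.curve.left) 1) := by
    haveI := CurveCohLib.finite_HH (k := K) (QCoh.isCoh_structureModule' (X := G.curve.left)) 1
    exact Module.finrank_zero_iff.1 a1
  have hdeg : Curv2.deg K G.curve.left
      ((Scheme.Modules.pullback (iotaX G)).obj (ClSub.idealMod (iotaX G).ker)) 1 = 1 :=
    (curveDeg_eq_deg K G.dim_eq hMq).symm.trans hdegK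
  obtain ⟨e', he'⟩ := CurveEmbed.exists_iso_line K G.dim_eq this hMi hdeg
  have he : e'.inv ≫ (G.curve.left ↘ Spec (CommRingCat.of K)) = CohB1.ProjSpace.toSpec 1 K := by
    rw [← he', Iso.inv_hom_id_assoc]
  obtain ⟨-, -, aχ⟩ := line_structure K e'.symm he
  obtain ⟨d, hd'⟩ := PnPic.exists_twist (ι := Fin (1 + 1)) (R := K) _
    (PicClLib.isInvertible_pullback e'.inv hMi) 0
  have hχ := eulerCharLE_of_line K e'.symm he hMq (d := d) hd'
  obtain rfl : d = 1 := by omega
  exact ⟨hI, K, inferInstance, e'.symm, hd'.map fun t =>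
    ((Scheme.Modules.pullbackComp e'.inv (iotaX G)).app _).symm ≪≫ t⟩

theorem exc_iff (G : ArSurf.VertComp R (Over.mk p)) (L : X.Modules) (hLi : PicF.IsInvertible L)
    (hI : BlowUp.IsEffCartierIdeal (iotaX G).ker)
    (hL : PicF.cl L * PicF.cl (ClSub.idealMod (iotaX G).ker) = 1) :
    Models.IsExcCurve (iotaX G) ↔
      Models.h1 R (Over.mk p) G = 0 ∧ ArSurf.inter R (Over.mk p) L G = -(Models.wdeg R (Over.mk p) G : ℤ) := by
  have hI' : PicF.IsInvertible (ClSub.idealMod (iotaX G).ker) := (S8914.result _).2 hI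
  haveI : IsLocallyNoetherian X := LocallyOfFiniteType.isLocallyNoetherian p
  have hneg : ArSurf.inter R (Over.mk p) L G = -ArSurf.inter R (Over.mk p) (ClSub.idealMod (iotaX G).ker) G := by
    have h := inter_tensor G hLi hI'
    rw [inter_congr G (InvX.isInvertible_tensorMod hLi hI') CurveDeg.isInvertible_structureModule
      (by rw [cl_tensor, hL, one_def]), inter_structure] at h
    linarith
  have hMi := PicClLib.isInvertible_pullback (iotaX G) hI'
  have hMq : Coh.IsQCoh ((Scheme.Modules.pullback (iotaX G)).obj (ClSub.idealMod (iotaX G).ker)) :=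
    QCoh.isQCoh_pullback (iotaX G) (AmpleVan.isCoh_invertible hI').1
  haveI hpk : IsProper (G.curve.left ↘ Spec (CommRingCat.of (IsLocalRing.ResidueField R))) := isProper_curve G
  have hinter : ArSurf.inter R (Over.mk p) (ClSub.idealMod (iotaX G).ker) G =
      FGA.eulerCharLE (IsLocalRing.ResidueField R) G.curve.left
          ((Scheme.Modules.pullback (iotaX G)).obj (ClSub.idealMod (iotaX G).ker)) 1 -
        FGA.eulerCharLE (IsLocalRing.ResidueField R) G.curve.left (Coh.structureModule G.curve.left) 1 := rfl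
  have hwpos := wdeg_pos G
  have hw : Models.wdeg R (Over.mk p) G =
      Module.finrank (IsLocalRing.ResidueField R) (Coh.HH G.curve.left (Coh.structureModule G.curve.left) 0) := rfl
  have hh1 : Models.h1 R (Over.mk p) G =
      Module.finrank (IsLocalRing.ResidueField R) (Coh.HH G.curve.left (Coh.structureModule G.curve.left) 1) := rfl
  constructor
  · rintro ⟨-, K, _, e, he1⟩
    letI : G.curve.left.Over (Spec (CommRingCat.of K)) := ⟨e.inv ≫ CohB1.ProjSpace.toSpec 1 K⟩
    haveI : IsProper (CohB1.ProjSpace.toSpec 1 K) := PnCoh.Chow.isProper_toSpec 1 K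
    haveI : IsProper (G.curve.left ↘ Spec (CommRingCat.of K)) :=
      inferInstanceAs (IsProper (e.inv ≫ CohB1.ProjSpace.toSpec 1 K))
    have he : e.hom ≫ (G.curve.left ↘ Spec (CommRingCat.of K)) = CohB1.ProjSpace.toSpec 1 K := e.hom_inv_id_assoc _
    obtain ⟨a0, a1, aχ⟩ := line_structure K e he
    have hbij : Function.Bijective (Coh.toGlobal (G.curve.left ↘ Spec (CommRingCat.of K))) :=
      (CurveBC.bijective_appTop K G.curve.left a0).comp
        (ConcreteCategory.bijective_of_isIso (Scheme.ΓSpecIso (CommRingCat.of K)).inv)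
    let ψ := RingEquiv.ofBijective _ hbij
    let φ : IsLocalRing.ResidueField R →+* K :=
      ψ.symm.toRingHom.comp (Coh.toGlobal (G.curve.left ↘ Spec (CommRingCat.of (IsLocalRing.ResidueField R))))
    have hφ : (G.curve.left ↘ Spec (CommRingCat.of (IsLocalRing.ResidueField R))) =
        (G.curve.left ↘ Spec (CommRingCat.of K)) ≫ Spec.map (CommRingCat.ofHom φ) :=
      ext_of_toGlobal fun a => by
        rw [toGlobal_comp]
        exact (ψ.apply_symm_apply _).symm
    rw [hh1, finrank_HH_change φ hφ, a1, mul_zero]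
    refine ⟨rfl, ?_⟩
    rw [hneg, hinter, hw, finrank_HH_change φ hφ (Coh.structureModule _) 0, a0, eulerCharLE_change φ hφ,
      eulerCharLE_change φ hφ, aχ, eulerCharLE_of_line K e he hMq (d := 1)
        (he1.map fun t => (Scheme.Modules.pullbackComp e.hom (iotaX G)).app _ ≪≫ t)]
    push_cast
    ring
  · rintro ⟨hh, hint⟩
    haveI := isField_of_universallyClosed (IsLocalRing.ResidueField R) (G.curve.left ↘ Spec (CommRingCat.of (IsLocalRing.ResidueField R)))
    letI := this.toField
    refine exc_of_genus_zero G hI hI' (Γ(G.curve.left, ⊤)) G.curve.left.toSpecΓ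
      (Coh.toGlobal (G.curve.left ↘ Spec (CommRingCat.of (IsLocalRing.ResidueField R)))) ?_ ?_ hh ?_
    · refine ext_of_toGlobal fun a => ?_
      rw [toGlobal_comp]
      exact (toGlobal_toSpecΓ G.curve.left _).symm
    · rw [Scheme.toSpecΓ_appTop]
      infer_instance
    · rw [hneg, neg_inj, hinter] at hint
      exact hint

/-- A vertical prime divisor is one of the components, as an embedded curve. -/
theorem exists_iso_component {n : ℕ} {Γ : Fin n → ArSurf.VertComp R (Over.mk p)} (S : Setting p Γ)
    (G : ArSurf.VertComp R (Over.mk p)) :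
    ∃ (i : Fin n) (e : (Γ i).curve.left ≅ G.curve.left), e.hom ≫ iotaX G = iotaX (Γ i) := by
  haveI : IsClosedImmersion (iotaX G) := G.isClosedImmersion
  have hy : gen (iotaX G) ∈ Models.specialFibreSet R (Over.mk p) := by
    show p (iotaX G (genericPoint G.curve.left)) = IsLocalRing.closedPoint R
    have h := congrArg (fun q : G.curve.left ⟶ Spec (CommRingCat.of R) => q (genericPoint G.curve.left)) G.w
    refine h.trans ?_
    show (Spec.map (CommRingCat.ofHom (IsLocalRing.residue R))) (G.curve.hom (genericPoint G.curve.left)) = _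
    rw [show G.curve.hom (genericPoint G.curve.left) = IsLocalRing.closedPoint (IsLocalRing.ResidueField R) from
      Subsingleton.elim (α := PrimeSpectrum (IsLocalRing.ResidueField R)) _ _]
    exact IsLocalRing.comap_closedPoint (IsLocalRing.residue R)
  obtain ⟨i, hi⟩ := S.exists_gp hy
  haveI : IsClosedImmersion (iotaX (Γ i)) := (Γ i).isClosedImmersion
  have hle : Set.range (iotaX G) ⊆ Set.range (iotaX (Γ i)) := by
    rw [range_eq_closure_gen (iotaX G), range_eq_closure_gen (iotaX (Γ i))]
    exact Specializes.closure_subset hi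
  have hη : gp Γ i ∈ Set.range (iotaX G) := by
    obtain ⟨z, hz⟩ := hle ⟨genericPoint G.curve.left, rfl⟩
    by_contra hne
    have hzne : z ≠ genericPoint (Γ i).curve.left := fun h => hne ⟨genericPoint G.curve.left, by
      rw [← hz, h]; rfl⟩
    haveI : IsProper ((Γ i).curve.left ↘ Spec (CommRingCat.of (IsLocalRing.ResidueField R))) := isProper_curve (Γ i)
    haveI := CurveCohLib.isNoetherian_of_proper (k := IsLocalRing.ResidueField R) (X := (Γ i).curve.left)
    have hzc : IsClosed ({z} : Set (Γ i).curve.left) := by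
      by_contra h
      exact hzne (CurveCohLib.eq_genericPoint_of_not_isClosed (Γ i).dim_eq h)
    have hgc : IsClosed ({iotaX G (genericPoint G.curve.left)} : Set X) := by
      rw [← hz, ← Set.image_singleton]
      exact (iotaX (Γ i)).isClosedEmbedding.isClosedMap _ hzc
    have h' : IsClosed ({genericPoint G.curve.left} : Set G.curve.left) := by
      have := hgc.preimage (iotaX G).continuous
      rwa [show (iotaX G) ⁻¹' {iotaX G (genericPoint G.curve.left)} = ({genericPoint G.curve.left} : Set G.curve.left) from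
        Set.ext fun y => ⟨fun h => (iotaX G).isClosedEmbedding.injective h, fun h => congrArg _ h⟩] at this
    have h : ∀ y : G.curve.left, y = genericPoint G.curve.left := fun y =>
      ((genericPoint_spec G.curve.left).specializes (Set.mem_univ y)).mem_closed h' (Set.mem_singleton _)
    haveI : Subsingleton (IrreducibleCloseds G.curve.left) := ⟨fun a b => IrreducibleCloseds.ext <| by
      obtain ⟨q, hq⟩ := a.isIrreducible.nonempty
      obtain ⟨r, hr⟩ := b.isIrreducible.nonempty
      ext y
      exact ⟨fun _ => by rw [h y, ← h r]; exact hr, fun _ => by rw [h y, ← h q]; exact hq⟩⟩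
    have : topologicalKrullDim G.curve.left ≤ 0 := Order.krullDim_nonpos_of_subsingleton
    rw [G.dim_eq] at this
    exact absurd this (by norm_num)
  have heq : Set.range (iotaX (Γ i)) = Set.range (iotaX G) := by
    refine le_antisymm ?_ hle
    rw [range_eq_closure_gen (iotaX (Γ i))]
    exact closure_minimal (Set.singleton_subset_iff.2 hη) (iotaX G).isClosedEmbedding.isClosed_range
  obtain ⟨e, he⟩ := H23.RedSub.exists_iso_of_range_eq (iotaX (Γ i)) (iotaX G) heq
  exact ⟨i, e, he⟩

theorem exists_index_exc {n : ℕ} {Γ : Fin n → ArSurf.VertComp R (Over.mk p)} (S : Setting p Γ)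
    (G : ArSurf.VertComp R (Over.mk p)) (hG : Models.IsExcCurve (iotaX G)) :
    ∃ i, Models.IsExcCurve (iotaX (Γ i)) := by
  obtain ⟨i, e, he⟩ := exists_iso_component S G
  obtain ⟨hI, k, _, e', ⟨t⟩⟩ := hG
  have hker : (iotaX (Γ i)).ker = (iotaX G).ker := by rw [← he, Scheme.Hom.ker_comp_of_isIso]
  refine ⟨i, hker ▸ hI, k, inferInstance, e' ≪≫ e.symm, ⟨?_⟩⟩
  rw [hker]
  exact (Scheme.Modules.pullbackCongr (show (e' ≪≫ e.symm).hom ≫ iotaX (Γ i) = e'.hom ≫ iotaX G by
    rw [Iso.trans_hom, Category.assoc, ← he]; simp)).app _ ≪≫ t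

end Groth.Agent.MdlInter
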