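import Groth.Agent.MdlInter.Thick
import Groth.Agent.MdlInter.Exc
import Groth.Agent.S11968
import Groth.Agent.DvrModel.Connected
import Groth.Agent.GeomField.GlobalFunctions
import Groth.Agent.H23.RedSub
import Mathlib.RingTheory.Unramified.Field
import Mathlib.FieldTheory.PurelyInseparable.Basic

/-!
# Torsion invertible modules trivial on the reduced closed fibre
-/

set_option linter.style.haveILetI false
set_option linter.unusedSectionVars false
set_option backward.isDefEq.respectTransparency false
set_option backward.isDefEq.respectTransparency.types false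
set_option maxHeartbeats 1000000

universe u

open CategoryTheory CategoryTheory.Limits AlgebraicGeometry TopologicalSpace
open Groth.Agent.H23.PicMul
open scoped Groth.Agent.H23.PicMul
open scoped TensorProduct

noncomputable section

namespace Groth.Agent.MdlInter

open Groth.Agent

theorem connectedSpace_of_thickening {A B : Scheme.{u}} (f : A ⟶ B) [IsClosedImmersion f] [Surjective f]
    [hB : ConnectedSpace B] : ConnectedSpace A :=
  (f.isClosedEmbedding.isEmbedding.toHomeomorphOfSurjective f.surjective).connectedSpace_iff.2 hB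

theorem finrank_eq_one_of_connected {k L : Type u} [Field k] [Field L] [Algebra k L] [FiniteDimensional k L]
    [Algebra.IsSeparable k L] (hc : ConnectedSpace (PrimeSpectrum (L ⊗[k] L))) : Module.finrank k L = 1 := by
  haveI : Algebra.FormallyEtale k L := Algebra.FormallyEtale.of_isSeparable k L
  haveI : Algebra.FormallyUnramified L (L ⊗[k] L) := inferInstance
  haveI : Algebra.EssFiniteType L (L ⊗[k] L) := inferInstance
  haveI : _root_.IsReduced (L ⊗[k] L) := Algebra.FormallyUnramified.isReduced_of_field L _
  haveI : IsArtinianRing (L ⊗[k] L) := IsArtinianRing.of_finite L _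
  haveI := hc
  haveI : Nonempty (PrimeSpectrum (L ⊗[k] L)) := hc.toNonempty
  haveI : Nontrivial (L ⊗[k] L) := PrimeSpectrum.nonempty_iff_nontrivial.1 inferInstance
  haveI : Subsingleton (PrimeSpectrum (L ⊗[k] L)) := PreconnectedSpace.trivial_of_discrete
  haveI : IsLocalRing (L ⊗[k] L) :=
    IsLocalRing.of_unique_max_ideal ⟨(Classical.arbitrary (PrimeSpectrum (L ⊗[k] L))).asIdeal,
      IsArtinianRing.isMaximal_of_isPrime _, fun M hM =>
        congrArg PrimeSpectrum.asIdeal (Subsingleton.elim (⟨M, hM.isPrime⟩ : PrimeSpectrum (L ⊗[k] L)) _)⟩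
  have hf : IsField (L ⊗[k] L) := IsArtinianRing.isField_of_isReduced_of_isLocalRing _
  letI := hf.toField
  have hinj : Function.Injective (Algebra.TensorProduct.lmul' k (S := L)).toLinearMap :=
    (Algebra.TensorProduct.lmul' k (S := L)).toRingHom.injective
  have h := LinearMap.finrank_le_finrank_of_injective hinj
  rw [Module.finrank_tensorProduct] at h
  have hp : 0 < Module.finrank k L := Module.finrank_pos
  nlinarith

variable (k : Type u) [Field k] (W : Scheme.{u}) [W.Over (Spec (CommRingCat.of k))]

attribute [local instance] GeomField.globalAlgebra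

/-- The constants of a geometrically connected reduced proper scheme are purely inseparable. -/
theorem isPurelyInseparable_globalFunctions [IsProper (W ↘ Spec (CommRingCat.of k))] [IsReduced W]
    [ConnectedSpace W] (hF : IsField Γ(W, ⊤))
    (hc : ∀ (L : Type u) [Field L] (ψ : k →+* L),
      ConnectedSpace ↥(pullback (W ↘ Spec (CommRingCat.of k)) (Spec.map (CommRingCat.ofHom ψ))))
    (a : Γ(W, ⊤)) (ha : _root_.IsSeparable k a) : a ∈ (algebraMap k Γ(W, ⊤)).range := by
  letI := hF.toField
  let L := IntermediateField.adjoin k ({a} : Set Γ(W, ⊤))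
  haveI : Algebra.IsSeparable k L := (IntermediateField.isSeparable_adjoin_simple_iff_isSeparable k _).2 ha
  haveI : FiniteDimensional k L := IntermediateField.adjoin.finiteDimensional ha.isIntegral
  let φ : k →+* L := algebraMap k L
  let g : W ⟶ Spec (CommRingCat.of L) := W.toSpecΓ ≫ Spec.map (CommRingCat.ofHom L.val.toRingHom)
  have hg : g ≫ Spec.map (CommRingCat.ofHom φ) = W ↘ Spec (CommRingCat.of k) := by
    refine ext_of_toGlobal fun b => ?_
    rw [toGlobal_comp, toGlobal_comp]
    exact toGlobal_toSpecΓ W _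
  let s := Spec.map (CommRingCat.ofHom φ)
  let t : pullback (W ↘ Spec (CommRingCat.of k)) s ⟶ pullback s s :=
    pullback.map _ _ _ _ g (𝟙 _) (𝟙 _) (by rw [Category.comp_id, hg]) (by simp)
  have hsurj : Function.Surjective t := by
    intro z
    haveI : Subsingleton ↥(Spec (CommRingCat.of L)) := inferInstanceAs (Subsingleton (PrimeSpectrum L))
    let w : W := Classical.arbitrary W
    obtain ⟨y, -, hy⟩ := Scheme.Pullback.exists_preimage_pullback (f := g) (g := pullback.fst s s) w z
      (Subsingleton.elim _ _)
    let m : pullback g (pullback.fst s s) ⟶ pullback (W ↘ Spec (CommRingCat.of k)) s :=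
      pullback.lift (pullback.fst _ _) (pullback.snd _ _ ≫ pullback.snd _ _) (by
        rw [← hg, pullback.condition_assoc, Category.assoc, pullback.condition])
    have hmt : m ≫ t = pullback.snd g (pullback.fst s s) := by
      refine pullback.hom_ext ?_ ?_
      · simp [m, t, pullback.condition]
      · simp [m, t]
    exact ⟨m y, by rw [← hy, ← hmt]; rfl⟩
  haveI := hc L φ
  haveI : ConnectedSpace ↥(pullback s s) :=
    Function.Surjective.connectedSpace hsurj t.continuous
  have hcon : ConnectedSpace (PrimeSpectrum (L ⊗[k] L)) :=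
    ((pullbackSpecIso k L L).hom.homeomorph).connectedSpace_iff.1 ‹_›
  have h1 := finrank_eq_one_of_connected hcon
  have hbot : L = ⊥ := IntermediateField.finrank_eq_one_iff.1 h1
  have hmem : a ∈ L := IntermediateField.mem_adjoin_simple_self k a
  rw [hbot] at hmem
  exact IntermediateField.mem_bot.1 hmem

variable {R : Type u} [CommRing R] [IsDomain R] [IsDiscreteValuationRing R]
  {C X : Scheme.{u}} {f : C ⟶ Spec (CommRingCat.of (FractionRing R))} {p : X ⟶ Spec (CommRingCat.of R)}

theorem ker_specMap {A B : Type u} [CommRing A] [CommRing B] (φ : A →+* B) :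
    (Spec.map (CommRingCat.ofHom φ)).ker = Curv2.idealSheaf A (RingHom.ker φ) := by
  rw [Scheme.ker_of_isAffine, Curv2.idealSheaf]
  congr 1
  ext a
  have hn := ConcreteCategory.congr_hom (Scheme.ΓSpecIso_naturality (CommRingCat.ofHom φ)) a
  simp only [ConcreteCategory.comp_apply] at hn
  rw [RingHom.mem_ker, ← map_eq_zero_iff _ (ConcreteCategory.bijective_of_isIso
    (Scheme.ΓSpecIso (CommRingCat.of B)).hom).1]
  constructor
  · intro h
    refine (Ideal.mem_map_iff_of_surjective _ (ConcreteCategory.bijective_of_isIso (Scheme.ΓSpecIso (CommRingCat.of A)).inv).2).2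
      ⟨(Scheme.ΓSpecIso (CommRingCat.of A)).hom a, hn.symm.trans h, ?_⟩
    exact Iso.hom_inv_id_apply _ _
  · intro h
    obtain ⟨b, hb, rfl⟩ := (Ideal.mem_map_iff_of_surjective _
      (ConcreteCategory.bijective_of_isIso (Scheme.ΓSpecIso (CommRingCat.of A)).inv).2).1 h
    refine hn.trans ?_
    rw [Iso.inv_hom_id_apply]
    exact hb

/-- The reduced closed fibre. -/
abbrev redFib (p : X ⟶ Spec (CommRingCat.of R)) : Scheme.{u} := (Models.redFibreIdeal R (Over.mk p)).subscheme

/-- Its embedding. -/
abbrev redFibι (p : X ⟶ Spec (CommRingCat.of R)) : redFib p ⟶ X := (Models.redFibreIdeal R (Over.mk p)).subschemeι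

theorem range_redFibι : Set.range (redFibι p) = p ⁻¹' {IsLocalRing.closedPoint R} := by
  rw [redFibι]
  refine (Scheme.IdealSheafData.range_subschemeι _).trans ?_
  rw [Models.redFibreIdeal, Scheme.IdealSheafData.coe_support_vanishingIdeal]
  rfl

/-- Closed subschemes with the closed point as image receive the reduced closed fibre. -/
theorem exists_lift_redFib {B : Type u} [CommRing B] (φ : R →+* B) (hφ : Function.Surjective φ)
    (hrange : Set.range (Spec.map (CommRingCat.ofHom φ)) = ({IsLocalRing.closedPoint R} : Set (PrimeSpectrum R))) :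
    ∃ z : redFib p ⟶ pullback p (Spec.map (CommRingCat.ofHom φ)), IsClosedImmersion z ∧ Surjective z ∧
      z ≫ pullback.fst p (Spec.map (CommRingCat.ofHom φ)) = redFibι p := by
  haveI : IsClosedImmersion (Spec.map (CommRingCat.ofHom φ)) := IsClosedImmersion.spec_of_surjective _ hφ
  let ti := pullback.fst p (Spec.map (CommRingCat.ofHom φ))
  haveI : IsClosedImmersion ti := MorphismProperty.pullback_fst _ _ inferInstance
  have hr : Set.range ti = p ⁻¹' {IsLocalRing.closedPoint R} := by
    rw [Scheme.Pullback.range_fst]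
    exact congrArg (p ⁻¹' ·) hrange
  haveI : IsReduced (redFib p) := H23.RedSub.isReduced_vanishingIdeal _
  obtain ⟨z, hz⟩ := H23.RedSub.exists_lift (redFibι p) ti ((range_redFibι (p := p)).trans hr.symm).le
  haveI : IsClosedImmersion (z ≫ ti) := hz ▸ inferInstance
  refine ⟨z, IsClosedImmersion.of_comp_isClosedImmersion z ti, ⟨fun y => ?_⟩, hz⟩
  obtain ⟨y', hy'⟩ := (hr.trans (range_redFibι (p := p)).symm).le ⟨y, rfl⟩
  exact ⟨y', ti.isClosedEmbedding.injective (by rw [← hy', ← hz]; rfl)⟩

theorem range_specResidue :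
    Set.range (Spec.map (CommRingCat.ofHom (IsLocalRing.residue R))) = ({IsLocalRing.closedPoint R} : Set (PrimeSpectrum R)) := by
  have key : ∀ w, Spec.map (CommRingCat.ofHom (IsLocalRing.residue R)) w = IsLocalRing.closedPoint R := fun w => by
    rw [show w = IsLocalRing.closedPoint (IsLocalRing.ResidueField R) from
      Subsingleton.elim (α := PrimeSpectrum (IsLocalRing.ResidueField R)) _ _]
    exact IsLocalRing.comap_closedPoint (IsLocalRing.residue R)
  ext z
  exact ⟨fun ⟨w, hw⟩ => hw ▸ key w, fun h => ⟨IsLocalRing.closedPoint (IsLocalRing.ResidueField R), (key _).trans h.symm⟩⟩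

theorem range_specMk_pow (n : ℕ) :
    Set.range (Spec.map (CommRingCat.ofHom (Ideal.Quotient.mk (IsLocalRing.maximalIdeal R ^ (n + 1))))) =
      ({IsLocalRing.closedPoint R} : Set (PrimeSpectrum R)) := by
  refine (range_comap_of_surjective _ _ Ideal.Quotient.mk_surjective).trans ?_
  rw [Ideal.mk_ker]
  ext q
  constructor
  · intro hq
    exact PrimeSpectrum.ext ((IsLocalRing.maximalIdeal.isMaximal R).eq_of_le q.2.ne_top
      (q.2.le_of_pow_le hq)).symm
  · rintro rfl
    exact Ideal.pow_le_self (Nat.succ_ne_zero n)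

theorem units_redFib (hH0 : IsIso f.appTop) (hX : Models.IsRegularProperModel R X p C f) (h : ℕ)
    (hchar : ∀ q : ℕ, q.Prime → CharP (IsLocalRing.ResidueField R) q → ¬ q ∣ h) (u : (Γ(redFib p, ⊤))ˣ) :
    ∃ (n : ℕ) (r : Rˣ), Nat.Coprime n h ∧
      (u : Γ(redFib p, ⊤)) ^ n = Coh.toGlobal (redFibι p ≫ p) (r : R) := by
  obtain ⟨⟨hflat, -, -, g, hg⟩, hproper, hreg⟩ := hX
  haveI := hflat; haveI := hproper
  haveI := DvrModel.geometricallyConnected_of_model f p hreg g hg (ConcreteCategory.bijective_of_isIso f.appTop)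
  let s := Spec.map (CommRingCat.ofHom (IsLocalRing.residue R))
  obtain ⟨z, hz1, hz2, hz⟩ := exists_lift_redFib (p := p) _ IsLocalRing.residue_surjective range_specResidue
  letI : (redFib p).Over (Spec (CommRingCat.of (IsLocalRing.ResidueField R))) := ⟨z ≫ pullback.snd p s⟩
  have hq : redFibι p ≫ p = (z ≫ pullback.snd p s) ≫ s := by
    rw [← hz, Category.assoc, pullback.condition, Category.assoc]
  haveI : IsProper ((redFib p) ↘ Spec (CommRingCat.of (IsLocalRing.ResidueField R))) := by
    haveI : IsProper (pullback.snd p s) := MorphismProperty.pullback_snd (P := @IsProper) p s inferInstance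
    exact inferInstanceAs (IsProper (z ≫ pullback.snd p s))
  haveI : IsReduced (redFib p) := H23.RedSub.isReduced_vanishingIdeal _
  have hc : ∀ (L : Type u) [Field L] (ψ : IsLocalRing.ResidueField R →+* L),
      ConnectedSpace ↥(pullback ((redFib p) ↘ Spec (CommRingCat.of (IsLocalRing.ResidueField R)))
        (Spec.map (CommRingCat.ofHom ψ))) := by
    intro L _ ψ
    haveI : ConnectedSpace ↥(pullback (pullback.snd p s) (Spec.map (CommRingCat.ofHom ψ))) := by
      haveI : ConnectedSpace ↥(pullback p (Spec.map (CommRingCat.ofHom ψ) ≫ s)) :=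
        GeometricallyConnected.geometrically_connectedSpace (f := p) (Spec.map (CommRingCat.ofHom ψ) ≫ s) _ _
          (IsPullback.of_hasPullback p _)
      exact (pullbackLeftPullbackSndIso p s (Spec.map (CommRingCat.ofHom ψ))).hom.homeomorph.connectedSpace_iff.2 ‹_›
    let m : pullback ((redFib p) ↘ Spec (CommRingCat.of (IsLocalRing.ResidueField R))) (Spec.map (CommRingCat.ofHom ψ)) ⟶
        pullback (pullback.snd p s) (Spec.map (CommRingCat.ofHom ψ)) :=
      pullback.map _ _ _ _ z (𝟙 _) (𝟙 _) (Category.comp_id _) (by simp)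
    have hpb : IsPullback m (pullback.fst _ _) (pullback.fst _ _) z := by
      refine IsPullback.of_right (h₁₂ := pullback.snd (pullback.snd p s) (Spec.map (CommRingCat.ofHom ψ))) ?_
        (by simp [m]) (IsPullback.of_hasPullback (pullback.snd p s) (Spec.map (CommRingCat.ofHom ψ))).flip
      rw [show m ≫ pullback.snd (pullback.snd p s) (Spec.map (CommRingCat.ofHom ψ)) = pullback.snd _ _ by simp [m]]
      exact (IsPullback.of_hasPullback _ _).flip
    haveI : IsClosedImmersion m := MorphismProperty.of_isPullback hpb.flip hz1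
    haveI : Surjective m := MorphismProperty.of_isPullback hpb.flip hz2
    exact connectedSpace_of_thickening m
  haveI : ConnectedSpace ↥(redFib p) := by
    have hcid := hc (IsLocalRing.ResidueField R) (RingHom.id _)
    haveI : IsIso (Spec.map (CommRingCat.ofHom (RingHom.id (IsLocalRing.ResidueField R)))) := by
      rw [show CommRingCat.ofHom (RingHom.id (IsLocalRing.ResidueField R)) = 𝟙 _ from rfl]; infer_instance
    exact (pullback.fst ((redFib p) ↘ Spec (CommRingCat.of (IsLocalRing.ResidueField R)))
      (Spec.map (CommRingCat.ofHom (RingHom.id _)))).homeomorph.connectedSpace_iff.1 hcid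
  have hF := GeomField.isField_globalFunctions (IsLocalRing.ResidueField R) (redFib p)
  letI := hF.toField
  haveI : Algebra.IsIntegral (IsLocalRing.ResidueField R) Γ(redFib p, ⊤) :=
    GeomField.algebraMap_integral _ _
  haveI : IsPurelyInseparable (IsLocalRing.ResidueField R) Γ(redFib p, ⊤) :=
    isPurelyInseparable_iff.2 fun a => ⟨Algebra.IsIntegral.isIntegral a,
      isPurelyInseparable_globalFunctions _ _ hF hc a⟩
  let q := ringExpChar (IsLocalRing.ResidueField R)
  obtain ⟨m, r0, hr0⟩ := IsPurelyInseparable.pow_mem (IsLocalRing.ResidueField R) q (u : Γ(redFib p, ⊤))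
  obtain ⟨r, rfl⟩ := IsLocalRing.residue_surjective r0
  have hru : IsUnit r := by
    rw [← IsLocalRing.notMem_maximalIdeal, ← IsLocalRing.residue_eq_zero_iff]
    intro h0
    rw [h0, map_zero] at hr0
    exact (u.isUnit.pow _).ne_zero hr0.symm
  refine ⟨q ^ m, hru.unit, Nat.Coprime.pow_left _ ?_, ?_⟩
  · obtain ⟨c, hc'⟩ := CharP.exists (IsLocalRing.ResidueField R)
    rcases CharP.char_is_prime_or_zero (IsLocalRing.ResidueField R) c with hp | hp0
    · haveI : ExpChar (IsLocalRing.ResidueField R) c := ExpChar.prime hp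
      rw [show q = c from ringExpChar.eq _ c]
      exact hp.coprime_iff_not_dvd.2 (hchar c hp hc')
    · subst hp0
      haveI : CharZero (IsLocalRing.ResidueField R) := CharP.charP_to_charZero _
      haveI : ExpChar (IsLocalRing.ResidueField R) 1 := ExpChar.zero
      rw [show q = 1 from ringExpChar.eq _ 1]
      exact Nat.coprime_one_left h
  · rw [← hr0, IsUnit.unit_spec, hq, toGlobal_comp]
    rfl

theorem trivial_of_redFib (hH0 : IsIso f.appTop) (hX : Models.IsRegularProperModel R X p C f) (h : ℕ) (hh : 0 < h)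
    (hchar : ∀ q : ℕ, q.Prime → CharP (IsLocalRing.ResidueField R) q → ¬ q ∣ h)
    (M : X.Modules) (hM : PicF.IsInvertible M) (htors : Nonempty (CohB1.tensorPow M h ≅ Coh.structureModule X))
    (htriv : Nonempty ((Scheme.Modules.pullback (redFibι p)).obj M ≅ Coh.structureModule (redFib p))) :
    Nonempty (M ≅ Coh.structureModule X) := by
  haveI := hX.2.1
  refine S11968.result R (IsLocalRing.maximalIdeal R) le_rfl p M hM fun n => ?_
  let φ := Ideal.Quotient.mk (IsLocalRing.maximalIdeal R ^ (n + 1))
  let ti := pullback.fst p (Spec.map (CommRingCat.ofHom φ))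
  haveI : IsClosedImmersion (Spec.map (CommRingCat.ofHom φ)) :=
    IsClosedImmersion.spec_of_surjective _ Ideal.Quotient.mk_surjective
  haveI : IsClosedImmersion ti := MorphismProperty.pullback_fst _ _ inferInstance
  obtain ⟨z, hz1, hz2, hz⟩ := exists_lift_redFib (p := p) φ Ideal.Quotient.mk_surjective (range_specMk_pow n)
  haveI : IsLocallyNoetherian X := LocallyOfFiniteType.isLocallyNoetherian p
  haveI : CompactSpace ↥X := QuasiCompact.compactSpace_of_compactSpace p
  haveI : IsLocallyNoetherian (pullback p (Spec.map (CommRingCat.ofHom φ))) :=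
    LocallyOfFiniteType.isLocallyNoetherian ti
  haveI : CompactSpace ↥(pullback p (Spec.map (CommRingCat.ofHom φ))) := ti.isClosedEmbedding.compactSpace
  obtain ⟨e, he⟩ := NormX.exists_pow_eq_bot z z.surjective ⟨z.ker, le_rfl, fun U =>
    haveI := IsLocallyNoetherian.component_noetherian U
    IsNoetherian.noetherian _⟩
  have hhR : IsUnit (h : R) := by
    rw [← IsLocalRing.notMem_maximalIdeal, ← IsLocalRing.residue_eq_zero_iff, map_natCast]
    intro h0
    rcases CharP.exists (IsLocalRing.ResidueField R) with ⟨c, hc⟩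
    haveI := hc
    rw [CharP.cast_eq_zero_iff (IsLocalRing.ResidueField R) c] at h0
    rcases CharP.char_is_prime_or_zero (IsLocalRing.ResidueField R) c with hp | hp0
    · exact hchar c hp hc h0
    · subst hp0
      exact hh.ne' (Nat.eq_zero_of_zero_dvd h0)
  refine cl_eq_iff.1 ?_
  rw [← one_def]
  refine eq_one_of_nilpotent (redFibι p ≫ p) h hhR (units_redFib hH0 hX h hchar) (2 ^ e) _ (ti ≫ p) z
    (by rw [← Category.assoc, hz]) ?_ _ ⟨_, rfl, PicClLib.isInvertible_pullback ti hM⟩ ?_ ?_
  · refine le_bot_iff.1 ((idealSheaf_pow_le z.ker (Nat.le_succ _)).trans he.le)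
  · show H23.PicMul.pullHom ti (PicF.cl M) ^ h = 1
    rw [← map_pow, ← cl_tensorPow, cl_eq_iff.2 htors, ← one_def, map_one]
  · show PicF.pullCl z (PicF.pullCl ti (PicF.cl M)) = 1
    rw [← PicLoc.pullCl_comp, hz, one_def]
    exact cl_eq_iff.2 htriv

end Groth.Agent.MdlInter
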