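import Groth.Agent.MdlInter.Combo
import Groth.Agent.CurveCohLib.Euler
import Groth.Agent.SurfRR.Seq
import Groth.Agent.IntNum.Push
import Groth.Agent.ExtShX.Divisor
import Groth.Agent.IntThLib.DetLength
import Groth.Agent.Snapper.DimVanish
import Groth.Agent.OmegaPn.CohBase

/-!
# Euler characteristics of divisors supported on the closed fibre
-/

set_option linter.style.haveILetI false
set_option linter.unusedSectionVars false
set_option backward.isDefEq.respectTransparency false
set_option backward.isDefEq.respectTransparency.types false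
set_option maxHeartbeats 1000000

universe u

open CategoryTheory CategoryTheory.Limits AlgebraicGeometry TopologicalSpace
open Groth.Agent.H23.PicMul
open scoped Groth.Agent.H23.PicMul
open Groth.Agent.PnCoh.Finite (mapLin deltaLin)

noncomputable section

namespace Groth.Agent.MdlInter

open Groth.Agent

section Len

variable (A : Type u) [CommRing A] {Y : Scheme.{u}} [Y.Over (Spec (CommRingCat.of A))]

/-- Cohomology of finite length, zero above degree one. -/
def GoodLen (F : Y.Modules) : Prop :=
  ∀ i : ℕ, Module.length A (Coh.HH Y F i) ≠ ⊤ ∧ (2 ≤ i → Subsingleton (Coh.HH Y F i))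

/-- The Euler characteristic in degrees zero and one, by lengths. -/
def chiLen (F : Y.Modules) : ℤ :=
  ((Module.length A (Coh.HH Y F 0)).toNat : ℤ) - ((Module.length A (Coh.HH Y F 1)).toNat : ℤ)

theorem length_eq_ker_add_range {M N : Type u} [AddCommGroup M] [Module A M] [AddCommGroup N] [Module A N]
    (f : M →ₗ[A] N) : Module.length A M =
      Module.length A (LinearMap.ker f) + Module.length A (LinearMap.range f) :=
  Module.length_eq_add_of_exact (LinearMap.ker f).subtype f.rangeRestrict
    (Submodule.injective_subtype _) f.surjective_rangeRestrict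
    (LinearMap.exact_iff.2 (by simp [LinearMap.ker_rangeRestrict]))

theorem GoodLen.ext {S : ShortComplex Y.Modules} (hS : S.ShortExact) (h1 : GoodLen A S.X₁) (h3 : GoodLen A S.X₃) :
    GoodLen A S.X₂ ∧ chiLen A S.X₂ = chiLen A S.X₁ + chiLen A S.X₃ := by
  have hker : ∀ n, LinearMap.ker (mapLin A S.g n) = LinearMap.range (mapLin A S.f n) :=
    CurveCohLib.ker_mapLin_g A hS
  have hrf : ∀ n, Module.length A (LinearMap.range (mapLin A S.f n)) ≠ ⊤ := fun n => by
    have h := length_eq_ker_add_range A (mapLin A S.f n)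
    intro ht
    rw [ht, add_top] at h
    exact (h1 n).1 h
  have hrg : ∀ n, Module.length A (LinearMap.range (mapLin A S.g n)) ≠ ⊤ := fun n ht =>
    (h3 n).1 (top_le_iff.1 (ht ▸ Module.length_le_of_injective (LinearMap.range (mapLin A S.g n)).subtype
      (Submodule.injective_subtype _)))
  have hfin : ∀ n, Module.length A (Coh.HH Y S.X₂ n) ≠ ⊤ := fun n => by
    rw [length_eq_ker_add_range A (mapLin A S.g n), hker n]
    exact WithTop.add_ne_top.2 ⟨hrf n, hrg n⟩
  have hvan : ∀ n, 2 ≤ n → Subsingleton (Coh.HH Y S.X₂ n) := fun n hn => by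
    haveI := (h1 n).2 hn
    haveI := (h3 n).2 hn
    rw [← Module.length_eq_zero_iff (R := A), length_eq_ker_add_range A (mapLin A S.g n), hker n,
      add_eq_zero, Module.length_eq_zero_iff, Module.length_eq_zero_iff]
    refine ⟨?_, inferInstance⟩
    exact ⟨fun ⟨a, x, hx⟩ ⟨b, y, hy⟩ =>
      Subtype.ext (hx.symm.trans ((congrArg (mapLin A S.f n) (Subsingleton.elim x y)).trans hy))⟩
  refine ⟨fun n => ⟨hfin n, hvan n⟩, ?_⟩
  let d : ℕ → ℤ := fun n => ((Module.length A (LinearMap.ker (mapLin A S.f n))).toNat : ℤ)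
  have split : ∀ {M N : Type u} [AddCommGroup M] [Module A M] [AddCommGroup N] [Module A N] (f : M →ₗ[A] N),
      Module.length A M ≠ ⊤ → ((Module.length A M).toNat : ℤ) =
        (Module.length A (LinearMap.ker f)).toNat + (Module.length A (LinearMap.range f)).toNat := by
    intro M N _ _ _ _ f hne
    rw [length_eq_ker_add_range A f] at hne ⊢
    obtain ⟨a, b⟩ := WithTop.add_ne_top.1 hne
    rw [ENat.toNat_add a b]
    push_cast
    rfl
  have key : ∀ n, ((Module.length A (Coh.HH Y S.X₁ n)).toNat : ℤ) + ((Module.length A (Coh.HH Y S.X₃ n)).toNat : ℤ) -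
      ((Module.length A (Coh.HH Y S.X₂ n)).toNat : ℤ) = d n + d (n + 1) := by
    intro n
    have e1 := split (mapLin A S.f n) (h1 n).1
    have e2 := split (mapLin A S.g n) (hfin n)
    have e3 := split (deltaLin A hS n) (h3 n).1
    rw [CurveCohLib.ker_mapLin_g A hS n] at e2
    rw [CurveCohLib.ker_deltaLin A hS n, ← CurveCohLib.ker_mapLin_f_succ A hS n] at e3
    simp only [d]
    omega
  have hd0 : d 0 = 0 := by
    haveI : Subsingleton (LinearMap.ker (mapLin A S.f 0)) := by
      rw [LinearMap.ker_eq_bot.2 (CurveCohLib.mapLin_f_zero_injective A hS)]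
      infer_instance
    simp [d, Module.length_eq_zero]
  have hd2 : d 2 = 0 := by
    haveI := (h1 2).2 le_rfl
    simp [d, Module.length_eq_zero]
  have k0 := key 0
  have k1 := key 1
  simp only [chiLen]
  simp only [Nat.reduceAdd, zero_add, hd0, hd2] at k0 k1
  linarith

theorem GoodLen.of_iso {F G : Y.Modules} (e : F ≅ G) (h : GoodLen A F) : GoodLen A G ∧ chiLen A G = chiLen A F := by
  have hl : ∀ i, Module.length A (Coh.HH Y G i) = Module.length A (Coh.HH Y F i) := fun i =>
    (OmegaPn.HHiso A e i).symm.length_eq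
  refine ⟨fun i => ⟨hl i ▸ (h i).1, fun hi => ?_⟩, by simp only [chiLen, hl]⟩
  haveI := (h i).2 hi
  rw [← Module.length_eq_zero_iff (R := A), hl i, Module.length_eq_zero_iff]
  infer_instance

theorem GoodLen.of_isZero {F : Y.Modules} (h : IsZero F) : GoodLen A F ∧ chiLen A F = 0 := by
  have hs : ∀ i, Subsingleton (Coh.HH Y F i) := fun i => OmegaPn.subsingleton_of_isZero A h i
  refine ⟨fun i => ⟨?_, fun _ => hs i⟩, ?_⟩
  · haveI := hs i
    rw [Module.length_eq_zero]
    exact WithTop.zero_ne_top
  · haveI := hs 0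
    haveI := hs 1
    simp [chiLen, Module.length_eq_zero]

theorem GoodLen.of_length_eq (N : Y.Modules) (d : ℕ → ℕ)
    (hlen : ∀ i, Module.length A (Coh.HH Y N i) = (d i : ℕ∞)) (hd : ∀ i, 2 ≤ i → d i = 0) :
    GoodLen A N ∧ chiLen A N = (d 0 : ℤ) - (d 1 : ℤ) := by
  refine ⟨fun i => ⟨?_, fun hi => ?_⟩, ?_⟩
  · rw [hlen i]
    exact ENat.natCast_ne_top _
  · rw [← Module.length_eq_zero_iff (R := A), hlen i, hd i hi, Nat.cast_zero]
  · simp only [chiLen, hlen, ENat.toNat_natCast]

end Len

variable {R : Type u} [CommRing R] [IsDomain R] [IsDiscreteValuationRing R]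
  {X : Scheme.{u}} {p : X ⟶ Spec (CommRingCat.of R)}

/-- The inclusion of a vertical component, with target `X`. -/
abbrev iotaX (G : ArSurf.VertComp R (Over.mk p)) : G.curve.left ⟶ X := G.ι

/-- `h⁰ - h¹` over the residue field. -/
def chiK (G : ArSurf.VertComp R (Over.mk p)) (M : G.curve.left.Modules) : ℤ :=
  FGA.eulerCharLE (IsLocalRing.ResidueField R) G.curve.left M 1

theorem goodLen_push [X.Over (Spec (CommRingCat.of R))] [IsProper p] (hp : (X ↘ Spec (CommRingCat.of R)) = p)
    (G : ArSurf.VertComp R (Over.mk p)) {M : G.curve.left.Modules} (hM : Coh.IsCoh M) :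
    GoodLen R ((Coh.push (iotaX G)).obj M) ∧ chiLen R ((Coh.push (iotaX G)).obj M) = chiK G M := by
  haveI : IsClosedImmersion (iotaX G) := G.isClosedImmersion
  haveI : IsProper (G.curve.left ↘ Spec (CommRingCat.of (IsLocalRing.ResidueField R))) := isProper_curve G
  haveI := CurveCohLib.isNoetherian_of_proper (k := IsLocalRing.ResidueField R) (X := G.curve.left)
  let ρk := Coh.toGlobal (G.curve.left ↘ Spec (CommRingCat.of (IsLocalRing.ResidueField R)))
  let ρ' : R →+* Coh.Γtop G.curve.left := ρk.comp (IsLocalRing.residue R)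
  have hρ : ∀ a, ρ' a = (iotaX G).appTop (Coh.toGlobal (X ↘ Spec (CommRingCat.of R)) a) := by
    intro a
    have h1 := congrArg (fun q : G.curve.left ⟶ Spec (CommRingCat.of R) =>
      q.appTop ((Scheme.ΓSpecIso (CommRingCat.of R)).inv a)) G.w
    simp only [Scheme.Hom.comp_appTop, ConcreteCategory.comp_apply] at h1
    rw [hp]
    refine Eq.trans ?_ h1.symm
    refine congrArg (G.curve.hom.appTop) ?_
    exact (ConcreteCategory.congr_hom (Scheme.ΓSpecIso_inv_naturality (CommRingCat.ofHom (IsLocalRing.residue R))) a)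
  have hlen : ∀ i, Module.length R (Coh.HH X ((Coh.push (iotaX G)).obj M) i) =
      Module.finrank (IsLocalRing.ResidueField R) (Coh.HH G.curve.left M i) := by
    intro i
    obtain ⟨e⟩ := QCoh.HH_push_linear (iotaX G) (Coh.toGlobal (X ↘ Spec (CommRingCat.of R))) ρ' hρ hM.1 i
    haveI := CurveCohLib.finite_HH (k := IsLocalRing.ResidueField R) hM i
    letI := QCoh.modHH ρ' M i
    refine e.length_eq.symm.trans ?_
    rw [IntThLib.length_eq_of_surjective_map (IsLocalRing.residue R) IsLocalRing.residue_surjective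
      (Coh.HH G.curve.left M i) (fun r m => rfl)]
    exact Module.length_eq_finrank _ _
  haveI : G.curve.left.IsSeparated := AmpleVan.isSeparated_of_proper (A := IsLocalRing.ResidueField R)
  obtain ⟨h1, h2⟩ := GoodLen.of_length_eq R ((Coh.push (iotaX G)).obj M)
    (fun i => Module.finrank (IsLocalRing.ResidueField R) (Coh.HH G.curve.left M i)) hlen (fun i hi => by
      haveI := Snapper.subsingleton_HH_of_dim_le (d := 1) (X := G.curve.left) (by rw [Nat.cast_one]; exact G.dim_eq.le)
        hM.1 (show 1 < i by omega)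
      exact Module.finrank_zero_of_subsingleton)
  refine ⟨h1, h2.trans ?_⟩
  simp [chiK, FGA.eulerCharLE, Finset.sum_range_succ, sub_eq_add_neg]

theorem nonempty_push_pullback {Z : Scheme.{u}} (ι : Z ⟶ X) [IsClosedImmersion ι] (N : X.Modules) {A : X.Modules}
    (eA : A ≅ CohB1.tensorMod N (ClSub.quotMod ι.ker)) :
    Nonempty ((Coh.push ι).obj ((Scheme.Modules.pullback ι).obj N) ≅ A) := by
  obtain ⟨q⟩ := ExtShX.nonempty_push_iso_quotMod ι
  obtain ⟨e1⟩ := IntNum.push_tensor ι (Coh.structureModule Z) N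
  let a : (Coh.push ι).obj ((Scheme.Modules.pullback ι).obj N) ≅ CohB1.tensorMod ((Coh.push ι).obj (Coh.structureModule Z)) N :=
    (Coh.push ι).mapIso (CurveTensor.structureTensorIso ((Scheme.Modules.pullback ι).obj N)).symm ≪≫ e1
  let b : CohB1.tensorMod ((Coh.push ι).obj (Coh.structureModule Z)) N ≅ CohB1.tensorMod (ClSub.quotMod ι.ker) N :=
    PicGrp.tensorModIso q.symm (Iso.refl N)
  let c : CohB1.tensorMod (ClSub.quotMod ι.ker) N ≅ CohB1.tensorMod N (ClSub.quotMod ι.ker) :=
    CurveTensor.commIso (ClSub.quotMod ι.ker) N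
  exact ⟨a.trans (b.trans (c.trans eA.symm))⟩

namespace Setting

variable {n : ℕ} {Γ : Fin n → ArSurf.VertComp R (Over.mk p)} (S : Setting p Γ)
  (L : Fin n → X.Modules) (hL : ∀ i, ClSub.IsInverseOf (L i) (ClSub.idealMod (comp Γ i)))
include S hL

theorem cl_idealMod_eq_comboCl (a : Fin n → ℕ) :
    PicF.cl (ClSub.idealMod (∏ i, comp Γ i ^ a i)) = S.comboCl L hL (fun i => -(a i : ℤ)) := by
  have h := S.prod_cl_L L hL a
  rw [← S.cl_idealMod_prod] at h
  have h2 : (S.comboCl L hL (fun i => (a i : ℤ)) : PicF.Cl X) * S.comboCl L hL (fun i => -(a i : ℤ)) = 1 := by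
    rw [← Units.val_mul, ← S.comboCl_add, show ((fun i => (a i : ℤ)) + fun i => -(a i : ℤ)) = 0 from
      funext fun i => by simp, S.comboCl_zero, Units.val_one]
  rw [S.comboCl_natCast, IntSym.cl_multiTwist] at h2
  exact (IsUnit.of_mul_eq_one _ h2).mul_left_cancel (h.trans h2.symm)

theorem good_quotMod [X.Over (Spec (CommRingCat.of R))] [IsProper p] (hp : (X ↘ Spec (CommRingCat.of R)) = p)
    (a : Fin n → ℕ) :
    GoodLen R (ClSub.quotMod (∏ j, comp Γ j ^ a j)) ∧ ∀ i,
      GoodLen R (ClSub.quotMod (∏ j, comp Γ j ^ (a j + if j = i then 1 else 0))) ∧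
      chiLen R (ClSub.quotMod (∏ j, comp Γ j ^ (a j + if j = i then 1 else 0))) =
        chiLen R (ClSub.quotMod (∏ j, comp Γ j ^ a j)) +
          (-(∑ j, (a j : ℤ) * ArSurf.inter R (Over.mk p) (L j) (Γ i)) +
            chiK (Γ i) (Coh.structureModule (Γ i).curve.left)) := by
  classical
  haveI := S.noeth
  have step : ∀ (b : Fin n → ℕ) (i : Fin n), GoodLen R (ClSub.quotMod (∏ j, comp Γ j ^ b j)) →
      GoodLen R (ClSub.quotMod (∏ j, comp Γ j ^ (b j + if j = i then 1 else 0))) ∧
      chiLen R (ClSub.quotMod (∏ j, comp Γ j ^ (b j + if j = i then 1 else 0))) =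
        chiLen R (ClSub.quotMod (∏ j, comp Γ j ^ b j)) +
          (-(∑ j, (b j : ℤ) * ArSurf.inter R (Over.mk p) (L j) (Γ i)) +
            chiK (Γ i) (Coh.structureModule (Γ i).curve.left)) := by
    intro b i hb
    let J := ∏ j, comp Γ j ^ b j
    have hJi : ∏ j, comp Γ j ^ (b j + if j = i then 1 else 0) = J * comp Γ i := by
      simp only [pow_add, Finset.prod_mul_distrib, pow_ite, pow_one, pow_zero, Finset.prod_ite_eq', Finset.mem_univ,
        if_true, J]
    rw [hJi]
    have hJ : PicF.IsInvertible (ClSub.idealMod J) := (S8914.result J).2 (S.isEffCartier_prod b)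
    have hle : J * comp Γ i ≤ J := fun U => by
      rw [Scheme.IdealSheafData.ideal_mul, Pi.mul_apply]
      exact Ideal.mul_le_left
    obtain ⟨A, a', w, hses, ⟨eA⟩⟩ := SurfRR.exists_shortExact_mul J (comp Γ i) hJ hle
    let G := Γ i
    haveI : IsClosedImmersion (iotaX G) := G.isClosedImmersion
    obtain ⟨eFull⟩ := nonempty_push_pullback (iotaX G) (ClSub.idealMod J) eA
    let Mι := (Scheme.Modules.pullback (iotaX G)).obj (ClSub.idealMod J)
    haveI : IsProper (G.curve.left ↘ Spec (CommRingCat.of (IsLocalRing.ResidueField R))) := isProper_curve G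
    haveI := CurveCohLib.isNoetherian_of_proper (k := IsLocalRing.ResidueField R) (X := G.curve.left)
    have hMι : PicF.IsInvertible Mι := PicClLib.isInvertible_pullback (iotaX G) hJ
    obtain ⟨hg, hχ⟩ := goodLen_push hp G (AmpleVan.isCoh_invertible hMι)
    obtain ⟨hA, hχA⟩ := GoodLen.of_iso R eFull hg
    obtain ⟨h2, hχ2⟩ := GoodLen.ext R hses hA hb
    refine ⟨h2, ?_⟩
    refine hχ2.trans ?_
    show chiLen R A + chiLen R (ClSub.quotMod J) = _
    rw [hχA, hχ, add_comm]
    congr 1
    have hinter := S.inter_eq L hL hJ CurveDeg.isInvertible_structureModule (fun j => -(b j : ℤ))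
      (by rw [← H23.PicMul.one_def, one_mul, S.cl_idealMod_eq_comboCl L hL b]) i
    rw [inter_structure, zero_add] at hinter
    have hdef : ArSurf.inter R (Over.mk p) (ClSub.idealMod J) (Γ i) =
        chiK (Γ i) Mι - chiK (Γ i) (Coh.structureModule G.curve.left) := rfl
    rw [hdef] at hinter
    have hs : ∑ j, -(b j : ℤ) * ArSurf.inter R (Over.mk p) (L j) (Γ i) =
        -∑ j, (b j : ℤ) * ArSurf.inter R (Over.mk p) (L j) (Γ i) := by
      rw [← Finset.sum_neg_distrib]; exact Finset.sum_congr rfl fun j _ => by ring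
    rw [hs] at hinter
    linarith
  have hzero : GoodLen R (ClSub.quotMod (1 : X.IdealSheafData)) := by
    refine (GoodLen.of_isZero R (CurveCohLib.isZero_of_subsingleton_stalks fun x => ?_)).1
    refine ParShLib.subsingleton_stalk_quotMod _ ?_
    rw [Scheme.IdealSheafData.one_eq_top, Scheme.IdealSheafData.support_top]
    exact fun h => h
  have hgood : ∀ (N : ℕ) (b : Fin n → ℕ), ∑ j, b j = N → GoodLen R (ClSub.quotMod (∏ j, comp Γ j ^ b j)) := by
    intro N
    induction N with
    | zero =>
      intro b hb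
      have : ∀ j, b j = 0 := fun j => Finset.sum_eq_zero_iff.1 hb j (Finset.mem_univ j)
      simp only [this, pow_zero, Finset.prod_const_one]
      exact hzero
    | succ N ih =>
      intro b hb
      obtain ⟨i, -, hi⟩ := Finset.exists_ne_zero_of_sum_ne_zero (show ∑ j, b j ≠ 0 by omega)
      let b' : Fin n → ℕ := fun j => if j = i then b j - 1 else b j
      have hbb : ∀ j, b j = b' j + if j = i then 1 else 0 := fun j => by
        by_cases hj : j = i
        · subst hj; simp [b']; omega
        · simp [b', hj]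
      have hsum : ∑ j, b' j = N := by
        have h := hb
        simp only [hbb, Finset.sum_add_distrib, Finset.sum_ite_eq', Finset.mem_univ, if_true] at h
        omega
      have := (step b' i (ih b' hsum)).1
      simpa only [← hbb] using this
  exact ⟨hgood _ a rfl, fun i => step a i (hgood _ a rfl)⟩

end Setting

end Groth.Agent.MdlInter
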