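import Groth.Agent.MdlInter.Trivial
import Groth.Agent.S2171

/-!
# The subgroup of classes supported on the closed fibre
-/

set_option linter.style.haveILetI false
set_option linter.unusedSectionVars false
set_option backward.isDefEq.respectTransparency false
set_option backward.isDefEq.respectTransparency.types false
set_option maxHeartbeats 1000000

universe u

open CategoryTheory CategoryTheory.Limits AlgebraicGeometry TopologicalSpace
open Groth.Agent.H23.PicMul
open scoped Groth.Agent.H23.PicMul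

noncomputable section

namespace Groth.Agent.MdlInter

open Groth.Agent

variable {R : Type u} [CommRing R] [IsDomain R] [IsDiscreteValuationRing R]
  {X : Scheme.{u}} {p : X ⟶ Spec (CommRingCat.of R)}

namespace Setting

variable {n : ℕ} {Γ : Fin n → ArSurf.VertComp R (Over.mk p)} (S : Setting p Γ)
  (L : Fin n → X.Modules) (hL : ∀ i, ClSub.IsInverseOf (L i) (ClSub.idealMod (comp Γ i)))
include S hL

/-- The class of `L i` as a unit. -/
def unitL (i : Fin n) : (PicF.Cl X)ˣ :=
  Units.mkOfMulEqOne (PicF.cl (L i)) (PicF.cl (ClSub.idealMod (comp Γ i))) (S.cl_L L hL i)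

/-- The class of an integral combination of the components. -/
def comboCl (v : Fin n → ℤ) : (PicF.Cl X)ˣ := ∏ i, S.unitL L hL i ^ v i

theorem comboCl_add (v w : Fin n → ℤ) : S.comboCl L hL (v + w) = S.comboCl L hL v * S.comboCl L hL w := by
  rw [comboCl, comboCl, comboCl, ← Finset.prod_mul_distrib]
  exact Finset.prod_congr rfl fun i _ => by rw [Pi.add_apply, zpow_add]

theorem comboCl_zero : S.comboCl L hL 0 = 1 := by simp [comboCl]

theorem comboCl_smul (t : ℤ) (v : Fin n → ℤ) :
    S.comboCl L hL (fun i => t * v i) = S.comboCl L hL v ^ t := by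
  simp only [comboCl, ← Finset.prod_zpow, ← zpow_mul, mul_comm t]

theorem comboCl_natCast (a : Fin n → ℕ) :
    (S.comboCl L hL (fun i => (a i : ℤ)) : PicF.Cl X) = PicF.cl (FGA.multiTwist L a) := by
  rw [IntSym.cl_multiTwist, comboCl, Units.coe_prod]
  exact Finset.prod_congr rfl fun i _ => by rw [zpow_natCast, Units.val_pow_eq_pow_val]; rfl

theorem comboCl_split (v : Fin n → ℤ) :
    (S.comboCl L hL v : PicF.Cl X) * PicF.cl (FGA.multiTwist L fun i => (-v i).toNat) =
      PicF.cl (FGA.multiTwist L fun i => (v i).toNat) := by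
  rw [← S.comboCl_natCast L hL, ← S.comboCl_natCast L hL, ← Units.val_mul, ← S.comboCl_add]
  congr 2
  funext i
  simp only [Pi.add_apply]
  omega

theorem comboCl_eq_one_iff [IsProper p] (hglob : Function.Bijective (Coh.toGlobal p)) (v : Fin n → ℤ) :
    S.comboCl L hL v = 1 ↔ ∃ c : ℤ, ∀ i, v i = c * (Models.mult R (Over.mk p) (Γ i) : ℤ) := by
  constructor
  · intro h
    have h1 := S.comboCl_split L hL v
    rw [h, Units.val_one, one_mul, IntSym.cl_multiTwist, IntSym.cl_multiTwist] at h1
    let a : Fin n → ℕ := fun i => (v i).toNat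
    let b : Fin n → ℕ := fun i => (-v i).toNat
    have h2 := S.prod_cl_L L hL a
    have h3 := S.prod_cl_L L hL b
    rw [show (∏ i, PicF.cl (L i) ^ a i) = ∏ i, PicF.cl (L i) ^ b i from h1.symm] at h2
    have h4 : PicF.cl (ClSub.idealMod (∏ i, comp Γ i ^ a i)) = PicF.cl (ClSub.idealMod (∏ i, comp Γ i ^ b i)) := by
      rw [S.cl_idealMod_prod, S.cl_idealMod_prod]
      exact (IsUnit.of_mul_eq_one _ h3).mul_left_cancel (h2.trans h3.symm)
    obtain ⟨c, hc⟩ := S.exponents_of_iso hglob (cl_eq_iff.1 h4).some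
    refine ⟨c, fun i => ?_⟩
    have := hc i
    simp only [a, b] at this
    omega
  · rintro ⟨c, hc⟩
    have hm : S.comboCl L hL (fun i => (Models.mult R (Over.mk p) (Γ i) : ℤ)) = 1 :=
      Units.ext ((S.comboCl_natCast L hL _).trans (S.cl_multiTwist_mult L hL))
    rw [show v = fun i => c * (Models.mult R (Over.mk p) (Γ i) : ℤ) from funext hc, S.comboCl_smul, hm, one_zpow]

variable {C : Scheme.{u}} {f : C ⟶ Spec (CommRingCat.of (FractionRing R))} (g : C ⟶ X)
  (hg : IsPullback g f p (Spec.map (CommRingCat.ofHom (algebraMap R (FractionRing R)))))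
include hg

theorem pullCl_L (i : Fin n) : pullHom g (PicF.cl (L i)) = 1 := by
  have hdis : (comp Γ i).comap g = ⊤ := by
    rw [← Scheme.IdealSheafData.support_eq_bot_iff, Scheme.IdealSheafData.support_comap]
    ext y
    simp only [TopologicalSpace.Closeds.coe_preimage, Set.mem_preimage, TopologicalSpace.Closeds.coe_bot,
      Set.mem_empty_iff_false, iff_false, comp, Scheme.Hom.support_ker]
    intro hy
    have hy' := (Γ i).ι.isClosedEmbedding.isClosed_range.closure_subset hy
    obtain ⟨z, hz⟩ := hy'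
    have h1 : p (g y) = IsLocalRing.closedPoint R := by
      rw [← hz]
      have := congrArg (fun q => q z) (Γ i).w
      refine this.trans ?_
      show Spec.map (CommRingCat.ofHom (IsLocalRing.residue R)) ((Γ i).curve.hom z) = _
      rw [show (Γ i).curve.hom z = IsLocalRing.closedPoint (IsLocalRing.ResidueField R) from Subsingleton.elim _ _]
      exact IsLocalRing.comap_closedPoint (IsLocalRing.residue R)
    have h2 : p (g y) = Spec.map (CommRingCat.ofHom (algebraMap R (FractionRing R))) (f y) :=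
      congrArg (fun q => q y) hg.w
    have h3 : (Spec.map (CommRingCat.ofHom (algebraMap R (FractionRing R))) (f y) : PrimeSpectrum R).asIdeal = ⊥ := by
      rw [show f y = IsLocalRing.closedPoint (FractionRing R) from Subsingleton.elim _ _]
      show Ideal.comap (algebraMap R (FractionRing R)) (IsLocalRing.maximalIdeal (FractionRing R)) = ⊥
      rw [IsLocalRing.maximalIdeal_eq_bot]
      exact Ideal.comap_bot_of_injective _ (IsFractionRing.injective R (FractionRing R))
    rw [← h2, h1] at h3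
    exact IsDiscreteValuationRing.not_a_field R h3
  have hI : PicF.IsInvertible (ClSub.idealMod ((comp Γ i).comap g)) := by
    rw [hdis]
    refine (S8914.result _).2 fun y => ?_
    obtain ⟨U, hU⟩ := exists_affine y
    exact ⟨U, hU, 1, one_mem _, by simp⟩
  obtain ⟨e⟩ := CurveAlgEqLib.nonempty_pullback_idealMod g ((S8914.result _).2 (S.isEffCartier i)) hI
  obtain ⟨e'⟩ := nonempty_structure_iso_idealMod ((comp Γ i).comap g) hI 1 fun U => by rw [hdis]; simp
  have h1 : pullHom g (PicF.cl (ClSub.idealMod (comp Γ i))) = 1 := by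
    rw [H23.PicMul.one_def]
    exact (cl_eq_iff.2 ⟨e⟩).trans (cl_eq_iff.2 ⟨e'⟩).symm
  have h := congrArg (pullHom g) (S.cl_L L hL i)
  rwa [map_mul, map_one, h1, mul_one] at h

theorem pullCl_comboCl (v : Fin n → ℤ) : pullHom g (S.comboCl L hL v : PicF.Cl X) = 1 := by
  have h : Units.map (pullHom g) (S.comboCl L hL v) = 1 := by
    rw [comboCl, map_prod]
    refine Finset.prod_eq_one fun i _ => ?_
    rw [map_zpow, show Units.map (pullHom g) (S.unitL L hL i) = 1 from Units.ext (S.pullCl_L L hL g hg i), one_zpow]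
  exact congrArg Units.val h

theorem exists_comboCl [IsProper p] {M : X.Modules} (hM : PicF.IsInvertible M)
    (htriv : Nonempty ((Scheme.Modules.pullback g).obj M ≅ Coh.structureModule C)) :
    ∃ v : Fin n → ℤ, PicF.cl M = S.comboCl L hL v := by
  obtain ⟨a, ha⟩ := S.exists_cl_eq g hg hM htriv
  refine ⟨fun i => (a i : ℤ), ?_⟩
  rw [S.comboCl_natCast, IntSym.cl_multiTwist]
  rw [S.cl_idealMod_prod] at ha
  have h := S.prod_cl_L L hL a
  exact (IsUnit.of_mul_eq_one_right _ h).mul_right_cancel (ha.trans h.symm)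

omit hg

theorem exists_module {M₀ : X.Modules} (hM₀ : PicF.IsInvertible M₀) (v : Fin n → ℤ) :
    ∃ M : X.Modules, PicF.IsInvertible M ∧ PicF.cl M = PicF.cl M₀ * S.comboCl L hL v := by
  obtain ⟨D, hD, ⟨eD⟩⟩ := H23.PicInv.exists_inverse
    (isInvertible_multiTwist L (S.isInvertible_L L hL) fun i => (-v i).toNat)
  refine ⟨CohB1.tensorMod (CohB1.tensorMod M₀ (FGA.multiTwist L fun i => (v i).toNat)) D,
    InvX.isInvertible_tensorMod (InvX.isInvertible_tensorMod hM₀
      (isInvertible_multiTwist L (S.isInvertible_L L hL) _)) hD, ?_⟩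
  have h1 : PicF.cl (FGA.multiTwist L fun i => (-v i).toNat) * PicF.cl D = 1 := by
    rw [← cl_tensor, H23.PicMul.one_def]; exact cl_eq_iff.2 ⟨eD⟩
  rw [cl_tensor, cl_tensor, ← S.comboCl_split L hL v, mul_assoc, mul_assoc, h1, mul_one]

theorem inter_eq [IsProper p] {M M₀ : X.Modules} (hM : PicF.IsInvertible M) (hM₀ : PicF.IsInvertible M₀)
    (v : Fin n → ℤ) (h : PicF.cl M = PicF.cl M₀ * S.comboCl L hL v) (i : Fin n) :
    ArSurf.inter R (Over.mk p) M (Γ i) =
      ArSurf.inter R (Over.mk p) M₀ (Γ i) + ∑ j, v j * ArSurf.inter R (Over.mk p) (L j) (Γ i) := by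
  have hI := S.isInvertible_L L hL
  have h1 : PicF.cl (CohB1.tensorMod M (FGA.multiTwist L fun j => (-v j).toNat)) =
      PicF.cl (CohB1.tensorMod M₀ (FGA.multiTwist L fun j => (v j).toNat)) := by
    rw [cl_tensor, cl_tensor, h, mul_assoc, S.comboCl_split]
  have h2 := inter_congr (Γ i) (InvX.isInvertible_tensorMod hM (isInvertible_multiTwist L hI _))
    (InvX.isInvertible_tensorMod hM₀ (isInvertible_multiTwist L hI _)) h1
  rw [inter_tensor (Γ i) hM (isInvertible_multiTwist L hI _), inter_tensor (Γ i) hM₀ (isInvertible_multiTwist L hI _),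
    inter_multiTwist (Γ i) L hI, inter_multiTwist (Γ i) L hI] at h2
  have h3 : ∀ j, v j * ArSurf.inter R (Over.mk p) (L j) (Γ i) =
      ((v j).toNat : ℤ) * ArSurf.inter R (Over.mk p) (L j) (Γ i) -
        ((-v j).toNat : ℤ) * ArSurf.inter R (Over.mk p) (L j) (Γ i) := fun j => by
    rw [← sub_mul]; congr 1; omega
  simp only [h3, Finset.sum_sub_distrib]
  linarith

/-- The reduced multiplicities. -/
def redMult (Γ : Fin n → ArSurf.VertComp R (Over.mk p)) (i : Fin n) : ℤ :=
  ((Models.mult R (Over.mk p) (Γ i) / Models.multGcd R (Over.mk p) Γ : ℕ) : ℤ)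

omit S hL in
theorem mult_eq (i : Fin n) :
    (Models.mult R (Over.mk p) (Γ i) : ℤ) = (Models.multGcd R (Over.mk p) Γ : ℤ) * redMult Γ i := by
  have h : Models.multGcd R (Over.mk p) Γ ∣ Models.mult R (Over.mk p) (Γ i) := Finset.gcd_dvd (Finset.mem_univ i)
  rw [redMult, ← Nat.cast_mul, Nat.mul_div_cancel' h]

theorem multGcd_pos (i₀ : Fin n) : 0 < Models.multGcd R (Over.mk p) Γ :=
  Nat.pos_of_ne_zero fun h => (S.mult_pos i₀).ne' (Finset.gcd_eq_zero_iff.1 h i₀ (Finset.mem_univ i₀))

/-- The kernel of the intersection matrix. -/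
theorem ker_inter {f' : C ⟶ Spec (CommRingCat.of (FractionRing R))}
    (hH0 : IsIso f'.appTop)
    (hX : Models.IsRegularProperModel R X p C f') (v : Fin n → ℤ)
    (hv : ∀ i, ∑ j, v j * ArSurf.inter R (Over.mk p) (L j) (Γ i) = 0) :
    ∃ t : ℤ, ∀ i, v i = t * redMult Γ i := by
  classical
  haveI := hX.2.1
  rcases Nat.eq_zero_or_pos n with hn | hn
  · exact ⟨0, fun i => absurd i.2 (by omega)⟩
  let A : Matrix (Fin n) (Fin n) ℝ := Matrix.of fun i j => (ArSurf.inter R (Over.mk p) (L j) (Γ i) : ℝ)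
  let m : Fin n → ℝ := fun i => (Models.mult R (Over.mk p) (Γ i) : ℝ)
  have hAv : A.mulVec (fun i => (v i : ℝ)) = 0 := by
    funext i
    have h := congrArg (fun z : ℤ => (z : ℝ)) (hv i)
    simp only [Int.cast_sum, Int.cast_mul, Int.cast_zero] at h
    simp only [Matrix.mulVec, dotProduct, A, Matrix.of_apply, Pi.zero_apply]
    rw [← h]
    exact Finset.sum_congr rfl fun j _ => mul_comm _ _
  have key := Groth.Agent.S2171.result A m
    (by ext i j; simp [A, Matrix.transpose_apply, Matrix.of_apply, S.inter_comm L hL i j])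
    (fun i j h => by simpa [A] using (Int.cast_nonneg (R := ℝ) (S.inter_nonneg L hL h)))
    (fun i => Nat.cast_pos.2 (S.mult_pos i)) (by
      funext i
      have h := congrArg (fun z : ℤ => (z : ℝ)) (S.sum_mult_inter L hL i)
      simp only [Int.cast_sum, Int.cast_mul, Int.cast_natCast, Int.cast_zero] at h
      simp only [Matrix.mulVec, dotProduct, A, m, Matrix.of_apply, Pi.zero_apply]
      rw [← h]
      exact Finset.sum_congr rfl fun j _ => mul_comm _ _)
    (fun I hI hI' => by
      obtain ⟨i, hi, j, hj, h⟩ := exists_meeting hH0 hX S.list L hL I hI hI'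
      exact ⟨i, hi, j, hj, by simpa [A] using h⟩)
    (fun i => (v i : ℝ))
  obtain ⟨q, hq⟩ := key.2.1 (by rw [hAv]; simp [dotProduct])
  let d := Models.multGcd R (Over.mk p) Γ
  have hd : (d : ℝ) ≠ 0 := Nat.cast_ne_zero.2 (S.multGcd_pos L hL ⟨0, hn⟩).ne'
  have hcross : ∀ i j, v i * redMult Γ j = v j * redMult Γ i := by
    intro i j
    have hi := congrFun hq i
    have hj := congrFun hq j
    simp only [Pi.smul_apply, smul_eq_mul, m] at hi hj
    have hmi : (Models.mult R (Over.mk p) (Γ i) : ℝ) = (d : ℝ) * (redMult Γ i : ℝ) := by exact_mod_cast mult_eq i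
    have hmj : (Models.mult R (Over.mk p) (Γ j) : ℝ) = (d : ℝ) * (redMult Γ j : ℝ) := by exact_mod_cast mult_eq j
    have h : ((v i * redMult Γ j : ℤ) : ℝ) = ((v j * redMult Γ i : ℤ) : ℝ) := by
      push_cast
      rw [hi, hj, hmi, hmj]
      ring
    exact_mod_cast h
  obtain ⟨u, hu⟩ : ∃ u : Fin n → ℤ, ∑ j, u j * redMult Γ j = 1 := by
    let e : Fin n → ℕ := fun j => Models.mult R (Over.mk p) (Γ j) / d
    obtain ⟨w, hw⟩ := Finset.gcd_eq_sum_mul (R := ℤ) (Finset.univ : Finset (Fin n)) (redMult Γ)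
    let g₀ := (Finset.univ : Finset (Fin n)).gcd (redMult Γ)
    have hg : g₀.natAbs = 1 := by
      have hdiv : ∀ j, g₀.natAbs ∣ e j := fun j => by
        have h : g₀ ∣ redMult Γ j := Finset.gcd_dvd (Finset.mem_univ j)
        exact Int.natCast_dvd_natCast.1 (Int.natAbs_dvd.2 h)
      have h2 : d * g₀.natAbs ∣ d := Finset.dvd_gcd fun j _ => by
        have h : d ∣ Models.mult R (Over.mk p) (Γ j) := Finset.gcd_dvd (Finset.mem_univ j)
        rw [← Nat.mul_div_cancel' h]
        exact Nat.mul_dvd_mul_left d (hdiv j)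
      exact Nat.eq_one_of_dvd_one (Nat.dvd_of_mul_dvd_mul_left (S.multGcd_pos L hL ⟨0, hn⟩) (by rwa [mul_one]))
    have hsq : g₀ * g₀ = 1 := by
      rcases Int.natAbs_eq g₀ with h | h <;> rw [h, hg] <;> norm_num
    refine ⟨fun j => g₀ * w j, ?_⟩
    calc ∑ j, g₀ * w j * redMult Γ j = g₀ * ∑ j, w j * redMult Γ j := by
          rw [Finset.mul_sum]; exact Finset.sum_congr rfl fun j _ => mul_assoc _ _ _
      _ = g₀ * g₀ := by
          rw [show g₀ = ∑ j, w j * redMult Γ j from hw.trans (Finset.sum_congr rfl fun j _ => by ring)]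
      _ = 1 := hsq
  refine ⟨∑ j, u j * v j, fun i => ?_⟩
  rw [Finset.sum_mul]
  calc v i = v i * ∑ j, u j * redMult Γ j := by rw [hu, mul_one]
    _ = _ := by
      rw [Finset.mul_sum]
      exact Finset.sum_congr rfl fun j _ => by rw [mul_left_comm, hcross i j, ← mul_assoc]

end Setting

end Groth.Agent.MdlInter

namespace Groth.Agent.MdlInter

open Groth.Agent

variable {R : Type u} [CommRing R] [IsDomain R] [IsDiscreteValuationRing R]
  {C X : Scheme.{u}} {f : C ⟶ Spec (CommRingCat.of (FractionRing R))} {p : X ⟶ Spec (CommRingCat.of R)}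
  {n : ℕ} {Γ : Fin n → ArSurf.VertComp R (Over.mk p)}

theorem bijective_toGlobal (hH0 : IsIso f.appTop) (hX : Models.IsRegularProperModel R X p C f) :
    Function.Bijective (Coh.toGlobal p) := by
  obtain ⟨⟨hflat, -, -, g, hg⟩, hproper, hreg⟩ := hX
  exact bijective_toGlobal_of_model f p hreg g hg (ConcreteCategory.bijective_of_isIso f.appTop)

theorem exists_index (hH0 : IsIso f.appTop)
    (hX : Models.IsRegularProperModel R X p C f) (hΓ : Models.IsComponentList R (Over.mk p) Γ) :
    Nonempty (Fin n) := by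
  obtain ⟨-, y, hy⟩ := isPreconnected_specialFibreSet hH0 hX
  obtain ⟨i, -⟩ := (setting_of_model hX hΓ).exists_gp hy
  exact ⟨i⟩

/-- The shape of a torsion class trivial on the generic fibre. -/
theorem torsion_combo (hC : Curve.IsSmoothProperCurve (FractionRing R) C f) (hH0 : IsIso f.appTop)
    (hX : Models.IsRegularProperModel R X p C f) (hΓ : Models.IsComponentList R (Over.mk p) Γ)
    (L : Fin n → X.Modules) (hL : ∀ i, ClSub.IsInverseOf (L i) (ClSub.idealMod (comp Γ i)))
    (v : Fin n → ℤ) (h : ℕ) (hh : 0 < h)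
    (hv : (setting_of_model hX hΓ).comboCl L hL v ^ h = 1) :
    ∃ t c : ℤ, (∀ i, v i = t * Setting.redMult Γ i) ∧ (h : ℤ) * t = c * (Models.multGcd R (Over.mk p) Γ : ℤ) := by
  haveI := hX.2.1
  have S := setting_of_model hX hΓ
  have hg := bijective_toGlobal hH0 hX
  rw [← zpow_natCast, ← (setting_of_model hX hΓ).comboCl_smul] at hv
  obtain ⟨c, hc⟩ := ((setting_of_model hX hΓ).comboCl_eq_one_iff L hL hg _).1 hv
  obtain ⟨t, ht⟩ := S.ker_inter L hL hH0 hX v fun i => by
    have h1 : (h : ℤ) * ∑ j, v j * ArSurf.inter R (Over.mk p) (L j) (Γ i) =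
        c * ∑ j, (Models.mult R (Over.mk p) (Γ j) : ℤ) * ArSurf.inter R (Over.mk p) (L j) (Γ i) := by
      rw [Finset.mul_sum, Finset.mul_sum]
      exact Finset.sum_congr rfl fun j _ => by rw [← mul_assoc, hc j, mul_assoc]
    rw [S.sum_mult_inter L hL i, mul_zero] at h1
    exact (mul_eq_zero.1 h1).resolve_left (by exact_mod_cast hh.ne')
  obtain ⟨i₀⟩ := exists_index hH0 hX hΓ
  refine ⟨t, c, ht, ?_⟩
  have h2 := hc i₀
  rw [ht i₀, Setting.mult_eq, ← mul_assoc, ← mul_assoc] at h2
  refine mul_right_cancel₀ ?_ h2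
  intro h0
  have := Setting.mult_eq (Γ := Γ) i₀
  rw [h0, mul_zero] at this
  exact (S.mult_pos i₀).ne' (by exact_mod_cast this)

theorem cl_eq_of_comboCl_sub (S : Setting p Γ) (L : Fin n → X.Modules)
    (hL : ∀ i, ClSub.IsInverseOf (L i) (ClSub.idealMod (comp Γ i))) {M : X.Modules} (h : ℕ) (a b : Fin n → ℕ)
    (hab : Nonempty (CohB1.tensorMod (CohB1.tensorPow M h) (FGA.multiTwist L a) ≅ FGA.multiTwist L b)) :
    PicF.cl M ^ h = S.comboCl L hL (fun i => (b i : ℤ) - (a i : ℤ)) := by
  have h1 := cl_eq_iff.2 hab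
  rw [cl_tensor, cl_tensorPow, ← S.comboCl_natCast L hL, ← S.comboCl_natCast L hL] at h1
  refine (S.comboCl L hL fun i => (a i : ℤ)).isUnit.mul_right_cancel (h1.trans ?_)
  rw [← Units.val_mul, ← S.comboCl_add]
  congr 2
  funext i
  simp

end Groth.Agent.MdlInter
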