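import Groth.Prelude.Def_ModelsG
import Groth.Agent.IntSym.Bridge
import Groth.Agent.Lib.CurveRR
import Groth.Agent.S1604
import Groth.Agent.S11503
import Groth.Agent.GeomField.GlobalFunctions
import Groth.Agent.QCoh.PushLin
import Groth.Agent.H23.PicMul

/-!
# Degrees on the vertical curves
-/

set_option linter.style.haveILetI false
set_option linter.unusedSectionVars false
set_option backward.isDefEq.respectTransparency false
set_option backward.isDefEq.respectTransparency.types false
set_option maxHeartbeats 1000000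

universe u

open CategoryTheory CategoryTheory.Limits AlgebraicGeometry TopologicalSpace
open Groth.Agent.H23.PicMul
open scoped Groth.Agent.H23.PicMul

noncomputable section

namespace Groth.Agent.MdlInter

open Groth.Agent

section Curve

variable (k : Type u) [Field k] {Y : Scheme.{u}} [Y.Over (Spec (CommRingCat.of k))]
  [IsProper (Y ↘ Spec (CommRingCat.of k))]

theorem curveDeg_eq_deg (hdim : topologicalKrullDim Y = 1) {M : Y.Modules} (hM : Coh.IsQCoh M) :
    ArSurf.curveDeg k Y M = Curv2.deg k Y M 1 := by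
  haveI := CurveCohLib.isNoetherian_of_proper (k := k) (X := Y)
  have hd : topologicalKrullDim Y ≤ ((1 : ℕ) : WithBot ℕ∞) := by rw [Nat.cast_one]; exact hdim.le
  show FGA.eulerCharLE k Y _ 1 - FGA.eulerCharLE k Y _ 1 = _
  rw [IntSym.eulerCharLE_eq_euler k hd hM, IntSym.eulerCharLE_eq_euler k hd QCoh.isQCoh_structureModule]
  simp [Curv2.deg]

theorem curveDeg_tensor [IsIntegral Y] (hdim : topologicalKrullDim Y = 1) {L M : Y.Modules}
    (hL : PicF.IsInvertible L) (hM : PicF.IsInvertible M) :
    ArSurf.curveDeg k Y (CohB1.tensorMod L M) = ArSurf.curveDeg k Y L + ArSurf.curveDeg k Y M := by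
  haveI := CurveCohLib.isNoetherian_of_proper (k := k) (X := Y)
  rw [curveDeg_eq_deg k hdim (AmpleVan.isCoh_invertible (InvX.isInvertible_tensorMod hL hM)).1,
    curveDeg_eq_deg k hdim (AmpleVan.isCoh_invertible hL).1, curveDeg_eq_deg k hdim (AmpleVan.isCoh_invertible hM).1]
  exact CurveRR.deg_tensor k hdim hL hM

/-- The degree of the line bundle of a divisor is the number of its global functions. -/
theorem curveDeg_divisor [IsIntegral Y] (hdim : topologicalKrullDim Y = 1) {D : Y.IdealSheafData}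
    (hD : BlowUp.IsEffCartierIdeal D) {L : Y.Modules} (hL : PicF.IsInvertible L)
    (hLD : ClSub.IsInverseOf L (ClSub.idealMod D)) :
    IsFinite (D.subschemeι ≫ (Y ↘ Spec (CommRingCat.of k))) ∧
    ArSurf.curveDeg k Y L =
      Module.finrank k (Coh.HH Y (ClSub.quotMod D) 0) := by
  haveI := CurveCohLib.isNoetherian_of_proper (k := k) (X := Y)
  rw [curveDeg_eq_deg k hdim (AmpleVan.isCoh_invertible hL).1]
  obtain ⟨hf, h⟩ := S1604.result k Y hdim.le D hD L hL hLD 1 (Coh.structureModule Y) (S11503.rank_one_unit Y)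
  obtain ⟨e⟩ : Nonempty (CohB1.tensorMod (Coh.structureModule Y) L ≅ L) :=
    cl_eq_iff.1 (by rw [cl_tensor, ← one_def, one_mul])
  rw [CurveRR.deg_congr k e 1, CurveDeg.deg_structureModule, add_zero, Nat.cast_one, one_mul] at h
  exact ⟨hf, h⟩

/-- Cohomology in degree zero of the quotient of an ideal. -/
theorem finrank_quotMod (D : Y.IdealSheafData) :
    letI : D.subscheme.Over (Spec (CommRingCat.of k)) := ⟨D.subschemeι ≫ (Y ↘ Spec (CommRingCat.of k))⟩
    letI := GeomField.globalAlgebra k D.subscheme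
    Module.finrank k (Coh.HH Y (ClSub.quotMod D) 0) = Module.finrank k Γ(D.subscheme, ⊤) := by
  letI : D.subscheme.Over (Spec (CommRingCat.of k)) := ⟨D.subschemeι ≫ (Y ↘ Spec (CommRingCat.of k))⟩
  obtain ⟨e⟩ := QCoh.HH_push_linear D.subschemeι (Coh.toGlobal (Y ↘ Spec (CommRingCat.of k)))
    (Coh.toGlobal (D.subscheme ↘ Spec (CommRingCat.of k))) (fun a => rfl) QCoh.isQCoh_structureModule 0
  rw [← GeomField.finrank_HH_zero k D.subscheme]
  exact e.finrank_eq.symm

/-- The dimension of the algebra of global functions. -/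
def fdim {Z : Scheme.{u}} (g : Z ⟶ Spec (CommRingCat.of k)) : ℕ :=
  letI : Z.Over (Spec (CommRingCat.of k)) := ⟨g⟩
  letI := GeomField.globalAlgebra k Z
  Module.finrank k Γ(Z, ⊤)

theorem finrank_quotMod' (D : Y.IdealSheafData) :
    Module.finrank k (Coh.HH Y (ClSub.quotMod D) 0) = fdim k (D.subschemeι ≫ (Y ↘ Spec (CommRingCat.of k))) :=
  finrank_quotMod k D

theorem fdim_congr {Z Z' : Scheme.{u}} (e : Z ≅ Z') (g : Z ⟶ Spec (CommRingCat.of k))
    (g' : Z' ⟶ Spec (CommRingCat.of k)) (w : e.hom ≫ g' = g) : fdim k g = fdim k g' := by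
  subst w
  letI : Z.Over (Spec (CommRingCat.of k)) := ⟨e.hom ≫ g'⟩
  letI : Z'.Over (Spec (CommRingCat.of k)) := ⟨g'⟩
  letI := GeomField.globalAlgebra k Z
  letI := GeomField.globalAlgebra k Z'
  let φ : Γ(Z', ⊤) →ₐ[k] Γ(Z, ⊤) := { e.hom.appTop.hom with commutes' := fun a => rfl }
  exact (LinearEquiv.ofBijective φ.toLinearMap (ConcreteCategory.bijective_of_isIso e.hom.appTop)).finrank_eq.symm

end Curve

end Groth.Agent.MdlInter
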