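import Groth.Agent.CurveAlgEqLib.IdealPull
import Groth.Agent.DivX.MeroMod
import Groth.Agent.InvX.Tensor

/-!
# The module of a principal effective Cartier divisor is trivial
-/

set_option linter.style.haveILetI false
set_option backward.isDefEq.respectTransparency false
set_option backward.isDefEq.respectTransparency.types false

universe u

open CategoryTheory CategoryTheory.Limits AlgebraicGeometry TopologicalSpace

namespace Groth.Agent.MdlInter

open Groth.Agent

theorem nonempty_structure_iso_idealMod {X : Scheme.{u}} (J : X.IdealSheafData)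
    (hJ : PicF.IsInvertible (ClSub.idealMod J)) (t : Γ(X, ⊤))
    (h : ∀ U : X.affineOpens,
      J.ideal U = Ideal.span {X.presheaf.map (homOfLE (le_top : U.1 ≤ ⊤)).op t}) :
    Nonempty (Coh.structureModule X ≅ ClSub.idealMod J) := by
  have ht : J.subschemeι.app ⊤ t = 0 := by
    refine TopCat.Sheaf.eq_of_locally_eq' J.subscheme.sheaf
      (fun U : X.affineOpens => J.subschemeι ⁻¹ᵁ U.1) _ (fun U => homOfLE le_top) ?_ _ _ fun U => ?_
    · intro y _
      obtain ⟨_, ⟨W, hW, rfl⟩, hyW, -⟩ := X.isBasis_affineOpens.exists_subset_of_mem_open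
        (Set.mem_univ (J.subschemeι y)) isOpen_univ
      exact Opens.mem_iSup.2 ⟨⟨W, hW⟩, hyW⟩
    · have hmem : X.presheaf.map (homOfLE (le_top : U.1 ≤ ⊤)).op t ∈ J.ideal U :=
        h U ▸ Ideal.mem_span_singleton_self _
      rw [← J.ker_subschemeι_app, RingHom.mem_ker] at hmem
      rw [map_zero]
      exact (ConcreteCategory.congr_hom (J.subschemeι.naturality (homOfLE le_top).op) t).symm.trans hmem
  obtain ⟨k, hk⟩ := OmegaLib.exists_idealSect_eq J ⊤ t ht
  have hcov : ∀ x : X, ∃ _ : PUnit.{u + 1}, x ∈ (⊤ : X.Opens) := fun x => ⟨PUnit.unit, trivial⟩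
  have hfr : InvX.IsFrame (M := Coh.structureModule X) (U := ⊤) (1 : Γ(X, ⊤)) := InvX.isFrame_one ⊤
  let φ : Coh.structureModule X ⟶ ClSub.idealMod J :=
    InvX.ofFrames (M := Coh.structureModule X) (U := fun _ : PUnit.{u + 1} => (⊤ : X.Opens))
      (e := fun _ => (1 : Γ(X, ⊤))) (n := fun _ => k) hcov (fun _ => hfr) (fun a b W hWa hWb r hr => by
        have : r = 1 := hfr.coord_unique hWa (by rw [one_smul]; exact hr.symm)
        rw [this, one_smul])
  have hφ : φ.app ⊤ (1 : Γ(X, ⊤)) = k := InvX.ofFrames_app _ _ _ PUnit.unit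
  haveI : IsIso φ := DivX.isIso_of_frames φ fun x => by
    obtain ⟨U₀, hx₀, ε₀, hε₀⟩ := InvX.exists_frame hJ x
    obtain ⟨W, hW, hxW, hle⟩ := exists_isAffineOpen_mem_and_subset (U := U₀) hx₀
    refine ⟨W, hxW, _, hfr.res le_top, ?_⟩
    rw [show φ.app W (AModX.res (Coh.structureModule X) (le_top : W ≤ ⊤) (1 : Γ(X, ⊤))) =
      AModX.res (ClSub.idealMod J) (le_top : W ≤ ⊤) k from (AModX.app_res φ le_top _).trans (congrArg _ hφ)]
    refine CurveAlgEqLib.isFrame_of_span J ⟨W, hW⟩ (hε₀.res hle) ?_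
    rw [h ⟨W, hW⟩, show OmegaSh.idealSect J W (AModX.res (ClSub.idealMod J) (le_top : W ≤ ⊤) k) = AModX.resR (le_top : W ≤ ⊤) t from (OmegaLib.idealSect_map J le_top k).trans (congrArg _ hk)]
    rfl
  exact ⟨asIso φ⟩

end Groth.Agent.MdlInter
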