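import Groth.Agent.MdlInter.Div
import Groth.Agent.MdlInter.Deg
import Groth.Agent.MdlInter.Principal
import Groth.Agent.CurveAlgEqLib.IdealPull
import Groth.Agent.DepthTwist.IdealPow
import Groth.Agent.S8862
import Groth.Agent.PicClLib.Basic
import Groth.Agent.FComplLib.IdealComap

/-!
# Intersection numbers of the components of the closed fibre
-/

set_option linter.style.haveILetI false
set_option linter.unusedSectionVars false
set_option backward.isDefEq.respectTransparency false
set_option backward.isDefEq.respectTransparency.types false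
set_option maxHeartbeats 1000000

universe u

open CategoryTheory CategoryTheory.Limits AlgebraicGeometry TopologicalSpace
open Groth.Agent.H23.PicMul
open scoped Groth.Agent.H23.PicMul

noncomputable section

namespace Groth.Agent.MdlInter

open Groth.Agent

variable {R : Type u} [CommRing R] [IsDomain R] [IsDiscreteValuationRing R]
  {X : Scheme.{u}} {p : X ⟶ Spec (CommRingCat.of R)}

theorem isInvertible_of_inv {A A' : X.Modules} (hA : PicF.IsInvertible A)
    (e : CohB1.tensorMod A' A ≅ Coh.structureModule X) : PicF.IsInvertible A' := by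
  obtain ⟨D, hD, ⟨u⟩⟩ := H23.PicInv.exists_inverse hA
  obtain ⟨v⟩ : Nonempty (A' ≅ D) := cl_eq_iff.1 (by
    have h1 : PicF.cl A * PicF.cl A' = 1 := by
      rw [mul_comm, ← cl_tensor, H23.PicMul.one_def]; exact cl_eq_iff.2 ⟨e⟩
    have h2 : PicF.cl A * PicF.cl D = 1 := by
      rw [← cl_tensor, H23.PicMul.one_def]; exact cl_eq_iff.2 ⟨u⟩
    exact (isUnit_cl hA).mul_left_cancel (h1.trans h2.symm))
  exact H23.PicMul.isInvertible_of_iso v.symm hD

theorem isProper_curve [IsProper p] (G : ArSurf.VertComp R (Over.mk p)) : IsProper G.curve.hom := by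
  haveI : IsProper (G.ι ≫ (Over.mk p).hom) :=
    MorphismProperty.comp_mem @IsProper _ _ (inferInstanceAs (IsProper G.ι)) (show IsProper p from inferInstance)
  haveI : IsProper (G.curve.hom ≫ Spec.map (CommRingCat.ofHom (IsLocalRing.residue R))) := G.w ▸ this
  exact IsProper.of_comp _ (Spec.map (CommRingCat.ofHom (IsLocalRing.residue R)))

section

variable [IsProper p] (G : ArSurf.VertComp R (Over.mk p))

theorem inter_congr {L M : X.Modules} (hL : PicF.IsInvertible L) (hM : PicF.IsInvertible M)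
    (h : PicF.cl L = PicF.cl M) : ArSurf.inter R (Over.mk p) L G = ArSurf.inter R (Over.mk p) M G := by
  obtain ⟨e⟩ := cl_eq_iff.1 h
  haveI : IsProper (G.curve.left ↘ Spec (CommRingCat.of (IsLocalRing.ResidueField R))) := isProper_curve G
  haveI : IsLocallyNoetherian X := LocallyOfFiniteType.isLocallyNoetherian p
  haveI := CurveCohLib.isNoetherian_of_proper (k := IsLocalRing.ResidueField R) (X := G.curve.left)
  show ArSurf.curveDeg _ _ _ = ArSurf.curveDeg _ _ _
  rw [curveDeg_eq_deg _ G.dim_eq (QCoh.isQCoh_pullback (G.ι : G.curve.left ⟶ X) (AmpleVan.isCoh_invertible hL).1),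
    curveDeg_eq_deg _ G.dim_eq (QCoh.isQCoh_pullback (G.ι : G.curve.left ⟶ X) (AmpleVan.isCoh_invertible hM).1)]
  exact CurveRR.deg_congr _ ((Scheme.Modules.pullback G.ι).mapIso e) 1

theorem inter_structure : ArSurf.inter R (Over.mk p) (Coh.structureModule X) G = 0 := by
  obtain ⟨e⟩ := PicClLib.nonempty_pullback_structureModule (G.ι : G.curve.left ⟶ X)
  haveI : IsProper (G.curve.left ↘ Spec (CommRingCat.of (IsLocalRing.ResidueField R))) := isProper_curve G
  haveI : IsLocallyNoetherian X := LocallyOfFiniteType.isLocallyNoetherian p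
  haveI := CurveCohLib.isNoetherian_of_proper (k := IsLocalRing.ResidueField R) (X := G.curve.left)
  show ArSurf.curveDeg _ _ _ = 0
  refine (curveDeg_eq_deg _ G.dim_eq (QCoh.isQCoh_pullback (G.ι : G.curve.left ⟶ X) QCoh.isQCoh_structureModule)).trans
    ((CurveRR.deg_congr _ e 1).trans (CurveDeg.deg_structureModule _))

theorem inter_tensor {L M : X.Modules} (hL : PicF.IsInvertible L) (hM : PicF.IsInvertible M) :
    ArSurf.inter R (Over.mk p) (CohB1.tensorMod L M) G =
      ArSurf.inter R (Over.mk p) L G + ArSurf.inter R (Over.mk p) M G := by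
  obtain ⟨e⟩ := cl_eq_iff.1 (show PicF.cl ((Scheme.Modules.pullback (G.ι : G.curve.left ⟶ X)).obj (CohB1.tensorMod L M)) =
    PicF.cl (CohB1.tensorMod ((Scheme.Modules.pullback (G.ι : G.curve.left ⟶ X)).obj L)
      ((Scheme.Modules.pullback (G.ι : G.curve.left ⟶ X)).obj M)) from pullCl_mul (G.ι : G.curve.left ⟶ X) (PicF.cl L) (PicF.cl M))
  haveI : IsProper (G.curve.left ↘ Spec (CommRingCat.of (IsLocalRing.ResidueField R))) := isProper_curve G
  haveI : IsLocallyNoetherian X := LocallyOfFiniteType.isLocallyNoetherian p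
  haveI := CurveCohLib.isNoetherian_of_proper (k := IsLocalRing.ResidueField R) (X := G.curve.left)
  show ArSurf.curveDeg _ _ _ = ArSurf.curveDeg _ _ _ + ArSurf.curveDeg _ _ _
  have hL' := PicClLib.isInvertible_pullback (G.ι : G.curve.left ⟶ X) hL
  have hM' := PicClLib.isInvertible_pullback (G.ι : G.curve.left ⟶ X) hM
  rw [← curveDeg_tensor _ G.dim_eq hL' hM',
    curveDeg_eq_deg _ G.dim_eq (QCoh.isQCoh_pullback (G.ι : G.curve.left ⟶ X)
      (AmpleVan.isCoh_invertible (InvX.isInvertible_tensorMod hL hM)).1),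
    curveDeg_eq_deg _ G.dim_eq (AmpleVan.isCoh_invertible (InvX.isInvertible_tensorMod hL' hM')).1]
  exact CurveRR.deg_congr _ e 1

theorem inter_tensorPow {L : X.Modules} (hL : PicF.IsInvertible L) :
    ∀ k : ℕ, ArSurf.inter R (Over.mk p) (CohB1.tensorPow L k) G = k * ArSurf.inter R (Over.mk p) L G
  | 0 => by rw [Nat.cast_zero, zero_mul]; exact inter_structure G
  | k + 1 => by
    show ArSurf.inter R (Over.mk p) (CohB1.tensorMod (CohB1.tensorPow L k) L) G = _
    rw [inter_tensor G (InvX.isInvertible_tensorPow hL k) hL, inter_tensorPow hL k]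
    push_cast
    ring

theorem isInvertible_tensorList : ∀ l : List X.Modules, (∀ A ∈ l, PicF.IsInvertible A) →
    PicF.IsInvertible (FGA.tensorList l)
  | [], _ => CurveDeg.isInvertible_structureModule
  | A :: l, h => InvX.isInvertible_tensorMod (h A List.mem_cons_self)
      (isInvertible_tensorList l fun B hB => h B (List.mem_cons_of_mem _ hB))

theorem inter_tensorList : ∀ l : List X.Modules, (∀ A ∈ l, PicF.IsInvertible A) →
    ArSurf.inter R (Over.mk p) (FGA.tensorList l) G = (l.map fun A => ArSurf.inter R (Over.mk p) A G).sum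
  | [], _ => inter_structure G
  | A :: l, h => by
    rw [List.map_cons, List.sum_cons, ← inter_tensorList l fun B hB => h B (List.mem_cons_of_mem _ hB)]
    exact inter_tensor G (h A List.mem_cons_self)
      (isInvertible_tensorList l fun B hB => h B (List.mem_cons_of_mem _ hB))

theorem isInvertible_multiTwist {n : ℕ} (L : Fin n → X.Modules) (hL : ∀ i, PicF.IsInvertible (L i))
    (a : Fin n → ℕ) : PicF.IsInvertible (FGA.multiTwist L a) :=
  isInvertible_tensorList _ fun A hA => by
    obtain ⟨i, -, rfl⟩ := List.mem_map.1 hA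
    exact InvX.isInvertible_tensorPow (hL i) _

theorem inter_multiTwist {n : ℕ} (L : Fin n → X.Modules) (hL : ∀ i, PicF.IsInvertible (L i)) (a : Fin n → ℕ) :
    ArSurf.inter R (Over.mk p) (FGA.multiTwist L a) G = ∑ i, (a i : ℤ) * ArSurf.inter R (Over.mk p) (L i) G := by
  rw [FGA.multiTwist, inter_tensorList G _ (fun A hA => by
    obtain ⟨i, -, rfl⟩ := List.mem_map.1 hA
    exact InvX.isInvertible_tensorPow (hL i) _), List.map_map, Fin.sum_univ_def]
  exact congrArg List.sum (List.map_congr_left fun i _ => inter_tensorPow G (hL i) _)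

end

namespace Setting

variable {n : ℕ} {Γ : Fin n → ArSurf.VertComp R (Over.mk p)} (S : Setting p Γ)
include S

theorem cl_idealMod_mul (I J : X.IdealSheafData) (hI : BlowUp.IsEffCartierIdeal I) :
    PicF.cl (ClSub.idealMod (I * J)) = PicF.cl (ClSub.idealMod I) * PicF.cl (ClSub.idealMod J) := by
  obtain ⟨e⟩ := DepthTwist.nonempty_idealMod_mul_iso I J ((S8914.result I).2 hI)
  rw [← cl_tensor]
  exact (cl_eq_iff.2 ⟨e⟩).symm

theorem cl_idealMod_one : PicF.cl (ClSub.idealMod (1 : X.IdealSheafData)) = 1 := by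
  rw [one_def]
  have h1 : BlowUp.IsEffCartierIdeal (1 : X.IdealSheafData) := by
    convert S.isEffCartier_prod 0 using 1
    simp only [Pi.zero_apply, pow_zero, Finset.prod_const_one]
  obtain ⟨e⟩ := nonempty_structure_iso_idealMod (1 : X.IdealSheafData) ((S8914.result _).2 h1) 1 fun U => by
    rw [map_one, Ideal.span_singleton_one, Scheme.IdealSheafData.one_eq_top]
    simp
  exact (cl_eq_iff.2 ⟨e⟩).symm

theorem cl_idealMod_prod (a : Fin n → ℕ) :
    PicF.cl (ClSub.idealMod (∏ i, comp Γ i ^ a i)) = ∏ i, PicF.cl (ClSub.idealMod (comp Γ i)) ^ a i := by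
  classical
  suffices h : ∀ s : Finset (Fin n), BlowUp.IsEffCartierIdeal (∏ i ∈ s, comp Γ i ^ a i) ∧
      PicF.cl (ClSub.idealMod (∏ i ∈ s, comp Γ i ^ a i)) = ∏ i ∈ s, PicF.cl (ClSub.idealMod (comp Γ i)) ^ a i from
    (h Finset.univ).2
  have hp : ∀ (i : Fin n) (k : ℕ), BlowUp.IsEffCartierIdeal (comp Γ i ^ k) := fun i k => by
    convert S.isEffCartier_prod (Pi.single i k) using 1
    rw [Finset.prod_eq_single i (fun j _ hj => by rw [Pi.single_eq_of_ne hj, pow_zero])
      (fun h => absurd (Finset.mem_univ i) h), Pi.single_eq_same]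
  have hsub : ∀ s : Finset (Fin n), BlowUp.IsEffCartierIdeal (∏ i ∈ s, comp Γ i ^ a i) := fun s => by
    convert S.isEffCartier_prod (fun i => if i ∈ s then a i else 0) using 1
    simp only [pow_ite, pow_zero, Finset.prod_ite_mem, Finset.univ_inter]
  have hpow : ∀ (i : Fin n) (k : ℕ),
      PicF.cl (ClSub.idealMod (comp Γ i ^ k)) = PicF.cl (ClSub.idealMod (comp Γ i)) ^ k := by
    intro i k
    induction k with
    | zero => rw [pow_zero, pow_zero, S.cl_idealMod_one]
    | succ k ih => rw [pow_succ, pow_succ, S.cl_idealMod_mul _ _ (hp i k), ih]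
  intro s
  refine ⟨hsub s, ?_⟩
  induction s using Finset.induction_on with
  | empty => rw [Finset.prod_empty, Finset.prod_empty, S.cl_idealMod_one]
  | insert j s hj IH => rw [Finset.prod_insert hj, Finset.prod_insert hj, S.cl_idealMod_mul _ _ (hp j _), hpow, IH]

theorem cl_idealMod_specialFibre : PicF.cl (ClSub.idealMod (Models.specialFibreIdeal R (Over.mk p))) = 1 := by
  obtain ⟨ϖ, hϖ⟩ := IsDiscreteValuationRing.exists_irreducible R
  have h : BlowUp.IsEffCartierIdeal (Models.specialFibreIdeal R (Over.mk p)) :=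
    S.specialFibreIdeal_eq ▸ S.isEffCartier_prod _
  obtain ⟨e⟩ := nonempty_structure_iso_idealMod (Models.specialFibreIdeal R (Over.mk p)) ((S8914.result _).2 h)
    (Coh.toGlobal p ϖ) fun U => by
      rw [Models.specialFibreIdeal, MeroX.ideal_comap_idealSheaf, hϖ.maximalIdeal_eq, Ideal.map_span,
        Set.image_singleton]
      rfl
  rw [one_def]
  exact (cl_eq_iff.2 ⟨e⟩).symm

/-- The classes of the components satisfy the relation of the closed fibre. -/
theorem prod_cl_mult : ∏ i, PicF.cl (ClSub.idealMod (comp Γ i)) ^ Models.mult R (Over.mk p) (Γ i) = 1 := by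
  rw [← S.cl_idealMod_prod, ← S.specialFibreIdeal_eq, S.cl_idealMod_specialFibre]

variable (L : Fin n → X.Modules) (hL : ∀ i, ClSub.IsInverseOf (L i) (ClSub.idealMod (comp Γ i)))
include hL

theorem cl_L (i : Fin n) : PicF.cl (L i) * PicF.cl (ClSub.idealMod (comp Γ i)) = 1 := by
  rw [← cl_tensor, one_def]
  exact cl_eq_iff.2 (hL i)

theorem isInvertible_L (i : Fin n) : PicF.IsInvertible (L i) :=
  isInvertible_of_inv ((S8914.result _).2 (S.isEffCartier i)) (hL i).some

theorem prod_cl_L (a : Fin n → ℕ) :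
    (∏ i, PicF.cl (L i) ^ a i) * ∏ i, PicF.cl (ClSub.idealMod (comp Γ i)) ^ a i = 1 := by
  rw [← Finset.prod_mul_distrib]
  exact Finset.prod_eq_one fun i _ => by rw [← mul_pow, S.cl_L L hL i, one_pow]

theorem cl_multiTwist_mult : PicF.cl (FGA.multiTwist L fun i => Models.mult R (Over.mk p) (Γ i)) = 1 := by
  have h := S.prod_cl_L L hL fun i => Models.mult R (Over.mk p) (Γ i)
  rw [S.prod_cl_mult, mul_one] at h
  rw [IntSym.cl_multiTwist, h]

theorem sum_mult_inter [IsProper p] (j : Fin n) :
    ∑ i, (Models.mult R (Over.mk p) (Γ i) : ℤ) * ArSurf.inter R (Over.mk p) (L i) (Γ j) = 0 := by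
  rw [← inter_multiTwist (Γ j) L (S.isInvertible_L L hL)]
  refine (inter_congr (Γ j) (isInvertible_multiTwist L (S.isInvertible_L L hL) _)
    CurveDeg.isInvertible_structureModule ?_).trans (inter_structure (Γ j))
  rw [S.cl_multiTwist_mult L hL, one_def]

end Setting

/-- The intersection of two components, over the residue field. -/
def meet {n : ℕ} (Γ : Fin n → ArSurf.VertComp R (Over.mk p)) (i j : Fin n) : Scheme.{u} :=
  pullback (show (Γ i).curve.left ⟶ X from (Γ i).ι) (show (Γ j).curve.left ⟶ X from (Γ j).ι)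

/-- The number of functions on the intersection of two components. -/
def meetDeg {n : ℕ} (Γ : Fin n → ArSurf.VertComp R (Over.mk p)) (i j : Fin n) : ℕ :=
  fdim (IsLocalRing.ResidueField R) (pullback.fst (show (Γ i).curve.left ⟶ X from (Γ i).ι)
    (show (Γ j).curve.left ⟶ X from (Γ j).ι) ≫ (Γ i).curve.hom)

theorem meetDeg_symm {n : ℕ} (Γ : Fin n → ArSurf.VertComp R (Over.mk p)) (i j : Fin n) :
    meetDeg Γ i j = meetDeg Γ j i := by
  refine fdim_congr _ (pullbackSymmetry _ _) _ _ ?_
  haveI : IsClosedImmersion (Spec.map (CommRingCat.ofHom (IsLocalRing.residue R))) :=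
    IsClosedImmersion.spec_of_surjective _ IsLocalRing.residue_surjective
  rw [← cancel_mono (Spec.map (CommRingCat.ofHom (IsLocalRing.residue R)))]
  simp only [Category.assoc, ← ArSurf.VertComp.w]
  rw [pullbackSymmetry_hom_comp_fst_assoc]
  exact (pullback.condition_assoc _).symm

theorem fdim_ker {k : Type u} [Field k] {Z Y : Scheme.{u}} (j : Z ⟶ Y) [IsClosedImmersion j]
    (g : Y ⟶ Spec (CommRingCat.of k)) (D : Y.IdealSheafData) (h : j.ker = D) :
    fdim k (D.subschemeι ≫ g) = fdim k (j ≫ g) := by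
  subst h
  exact (fdim_congr k (asIso j.toImage) _ _ (by
    rw [asIso_hom, ← Category.assoc]
    exact congrArg (· ≫ g) j.toImage_imageι)).symm

namespace Setting

variable {n : ℕ} {Γ : Fin n → ArSurf.VertComp R (Over.mk p)} (S : Setting p Γ)
  (L : Fin n → X.Modules) (hL : ∀ i, ClSub.IsInverseOf (L i) (ClSub.idealMod (comp Γ i)))
include S hL

theorem inter_eq_meetDeg [IsProper p] {i j : Fin n} (hij : i ≠ j) :
    ArSurf.inter R (Over.mk p) (L j) (Γ i) = meetDeg Γ i j ∧
      IsFinite (pullback.fst (show (Γ i).curve.left ⟶ X from (Γ i).ι) (show (Γ j).curve.left ⟶ X from (Γ j).ι) ≫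
        (Γ i).curve.hom) := by
  let ι : (Γ i).curve.left ⟶ X := (Γ i).ι
  let D := (comp Γ j).comap ι
  have hD : BlowUp.IsEffCartierIdeal D := by
    refine S8862.result ι _ (S.isEffCartier j) fun ξ hξ => ?_
    rw [hξ (genericPoint _) (genericPoint_specializes ξ) |>.symm]
    intro h
    rw [← SetLike.mem_coe, comp, Scheme.Hom.support_ker] at h
    exact hij (S.eq_of_specializes ((mem_range_iff (X := X) (Γ j).ι).1
      ((Γ j).ι.isClosedEmbedding.isClosed_range.closure_subset h))).symm
  obtain ⟨e⟩ := CurveAlgEqLib.nonempty_pullback_idealMod ι ((S8914.result _).2 (S.isEffCartier j))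
    ((S8914.result _).2 hD)
  have hLD : ClSub.IsInverseOf ((Scheme.Modules.pullback ι).obj (L j)) (ClSub.idealMod D) := by
    refine cl_eq_iff.1 ?_
    rw [cl_tensor, ← H23.PicMul.one_def, ← cl_eq_iff.2 ⟨e⟩]
    have h := congrArg (pullHom ι) (S.cl_L L hL j)
    rw [map_mul, map_one] at h
    exact h
  haveI : IsProper ((Γ i).curve.left ↘ Spec (CommRingCat.of (IsLocalRing.ResidueField R))) := isProper_curve (Γ i)
  obtain ⟨hfin, hdeg⟩ := curveDeg_divisor (IsLocalRing.ResidueField R) (Γ i).dim_eq hD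
    (PicClLib.isInvertible_pullback ι (S.isInvertible_L L hL j)) hLD
  let f := pullback.fst ι (show (Γ j).curve.left ⟶ X from (Γ j).ι)
  have hker : f.ker = D := FComplLib.ker_of_isPullback (IsPullback.of_hasPullback ι _)
  refine ⟨?_, ?_⟩
  · refine hdeg.trans ?_
    rw [finrank_quotMod' (IsLocalRing.ResidueField R) D, fdim_ker f _ D hker]
    rfl
  · have hfac : f = f.toImage ≫ f.imageι := f.toImage_imageι.symm
    show IsFinite (f ≫ (Γ i).curve.hom)
    haveI : IsFinite (f.imageι ≫ (Γ i).curve.hom) := by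
      show IsFinite (f.ker.subschemeι ≫ _)
      rw [hker]
      exact hfin
    rw [hfac, Category.assoc]
    infer_instance

theorem inter_comm [IsProper p] (i j : Fin n) :
    ArSurf.inter R (Over.mk p) (L j) (Γ i) = ArSurf.inter R (Over.mk p) (L i) (Γ j) := by
  by_cases h : i = j
  · rw [h]
  · rw [(S.inter_eq_meetDeg L hL h).1, (S.inter_eq_meetDeg L hL (Ne.symm h)).1, meetDeg_symm]

theorem inter_nonneg [IsProper p] {i j : Fin n} (hij : i ≠ j) :
    0 ≤ ArSurf.inter R (Over.mk p) (L j) (Γ i) :=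
  (S.inter_eq_meetDeg L hL hij).1 ▸ Int.natCast_nonneg _

theorem inter_eq_zero_iff [IsProper p] {i j : Fin n} (hij : i ≠ j) :
    ArSurf.inter R (Over.mk p) (L j) (Γ i) = 0 ↔
      Disjoint (Set.range ((Γ i).ι.base : (Γ i).curve.left → X)) (Set.range ((Γ j).ι.base : (Γ j).curve.left → X)) := by
  obtain ⟨h, hfin⟩ := S.inter_eq_meetDeg L hL hij
  rw [h, Nat.cast_eq_zero]
  let ι : (Γ i).curve.left ⟶ X := (Γ i).ι
  let ι' : (Γ j).curve.left ⟶ X := (Γ j).ι
  let Z := pullback ι ι'
  let g : Z ⟶ Spec (CommRingCat.of (IsLocalRing.ResidueField R)) := pullback.fst ι ι' ≫ (Γ i).curve.hom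
  letI : Z.Over (Spec (CommRingCat.of (IsLocalRing.ResidueField R))) := ⟨g⟩
  letI := GeomField.globalAlgebra (IsLocalRing.ResidueField R) Z
  haveI hg : IsFinite g := hfin
  haveI : Module.Finite (IsLocalRing.ResidueField R) Γ(Z, ⊤) :=
    RingHom.Finite.comp (IsFinite.finite_app (f := g) ⊤ (isAffineOpen_top _))
      (RingHom.Finite.of_surjective _ (ConcreteCategory.bijective_of_isIso
        (Scheme.ΓSpecIso (CommRingCat.of (IsLocalRing.ResidueField R))).inv).2)
  show Module.finrank (IsLocalRing.ResidueField R) Γ(Z, ⊤) = 0 ↔ _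
  rw [Module.finrank_zero_iff]
  constructor
  · intro hs
    rw [Set.disjoint_left]
    rintro x ⟨a, ha⟩ ⟨b, hb⟩
    obtain ⟨z, -, -⟩ := Scheme.Pullback.exists_preimage_pullback (f := ι) (g := ι') a b (ha.trans hb.symm)
    have h01 : (1 : Z.presheaf.stalk z) = 0 := by
      rw [← map_one (Z.presheaf.germ ⊤ z trivial).hom, Subsingleton.elim (1 : Γ(Z, ⊤)) 0, map_zero]
    exact one_ne_zero h01
  · intro hd
    haveI : IsEmpty Z := ⟨fun z => Set.disjoint_left.1 hd
      ⟨pullback.fst ι ι' z, rfl⟩ ⟨pullback.snd ι ι' z, by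
        show (pullback.snd ι ι' ≫ ι') z = _
        rw [← pullback.condition]; rfl⟩⟩
    have : (⊤ : Z.Opens) = ⊥ := by ext z; exact isEmptyElim z
    rw [this]
    infer_instance

end Setting

end Groth.Agent.MdlInter
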