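import Groth.Agent.MdlInter.Genus
import Groth.Agent.CurveEmbed.DegOne

/-!
# Degrees of the fields of constants
-/

set_option linter.style.haveILetI false
set_option linter.unusedSectionVars false
set_option backward.isDefEq.respectTransparency false
set_option backward.isDefEq.respectTransparency.types false
set_option maxHeartbeats 1000000

universe u

open CategoryTheory CategoryTheory.Limits AlgebraicGeometry TopologicalSpace

noncomputable section

namespace Groth.Agent.MdlInter

open Groth.Agent

attribute [local instance] GeomField.globalAlgebra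

variable (k : Type u) [Field k] {Y : Scheme.{u}} [Y.Over (Spec (CommRingCat.of k))] [IsIntegral Y]
  [IsProper (Y ↘ Spec (CommRingCat.of k))]

include k in
/-- The degree of the field of constants divides the dimension of every cohomology group. -/
theorem h0_dvd_finrank (M : Y.Modules) (i : ℕ) :
    Module.finrank k (Coh.HH Y (Coh.structureModule Y) 0) ∣ Module.finrank k (Coh.HH Y M i) := by
  rw [GeomField.finrank_HH_zero k Y]
  letI : Field Γ(Y, ⊤) := (isField_of_universallyClosed k (Y ↘ Spec (CommRingCat.of k))).toField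
  letI : Module Γ(Y, ⊤) (Coh.HH Y M i) := inferInstanceAs (Module (Coh.Γtop Y) (Coh.HH Y M i))
  haveI : IsScalarTower k Γ(Y, ⊤) (Coh.HH Y M i) := IsScalarTower.of_algebraMap_smul fun r x => rfl
  rw [← Module.finrank_mul_finrank k Γ(Y, ⊤) (Coh.HH Y M i)]
  exact dvd_mul_right _ _

include k in
theorem h0_pos : 0 < Module.finrank k (Coh.HH Y (Coh.structureModule Y) 0) := by
  haveI := CurveCohLib.isNoetherian_of_proper (k := k) (X := Y)
  haveI := CurveCohLib.finite_HH (k := k) (QCoh.isCoh_structureModule' (X := Y)) 0
  refine Nat.pos_of_ne_zero fun h => ?_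
  haveI := Module.finrank_zero_iff.1 h
  have e : Coh.HH Y (Coh.structureModule Y) 0 ≃+ Γ(Y, ⊤) :=
    Sheaf.H.equiv₀ (Coh.toAb (Coh.structureModule Y)) isTerminalTop
  exact not_subsingleton Γ(Y, ⊤) e.symm.injective.subsingleton

variable {R : Type u} [CommRing R] [IsDomain R] [IsDiscreteValuationRing R]
  {X : Scheme.{u}} {p : X ⟶ Spec (CommRingCat.of R)} [IsProper p]

theorem wdeg_pos (G : ArSurf.VertComp R (Over.mk p)) : 0 < Models.wdeg R (Over.mk p) G := by
  haveI := isProper_curve G
  haveI : IsProper (G.curve.left ↘ Spec (CommRingCat.of (IsLocalRing.ResidueField R))) := isProper_curve G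
  exact h0_pos (IsLocalRing.ResidueField R) (Y := G.curve.left)

theorem wdeg_dvd_h1 (G : ArSurf.VertComp R (Over.mk p)) :
    Models.wdeg R (Over.mk p) G ∣ Models.h1 R (Over.mk p) G := by
  haveI : IsProper (G.curve.left ↘ Spec (CommRingCat.of (IsLocalRing.ResidueField R))) := isProper_curve G
  exact h0_dvd_finrank (IsLocalRing.ResidueField R) (Y := G.curve.left) _ 1

theorem wdeg_dvd_inter (L : X.Modules) (G : ArSurf.VertComp R (Over.mk p)) :
    (Models.wdeg R (Over.mk p) G : ℤ) ∣ ArSurf.inter R (Over.mk p) L G := by
  haveI : IsProper (G.curve.left ↘ Spec (CommRingCat.of (IsLocalRing.ResidueField R))) := isProper_curve G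
  have h : ∀ M : G.curve.left.Modules, (Models.wdeg R (Over.mk p) G : ℤ) ∣ chiK G M := fun M => by
    unfold chiK FGA.eulerCharLE
    exact Finset.dvd_sum fun i _ => Dvd.dvd.mul_left
      (Int.natCast_dvd_natCast.2 (h0_dvd_finrank (IsLocalRing.ResidueField R) (Y := G.curve.left) M i)) _
  exact dvd_sub (h _) (h _)

end Groth.Agent.MdlInter
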