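import Groth.Agent.MdlInter.Inter
import Groth.Agent.DvrModel.Connected

/-!
# Connectedness of the closed fibre and the intersection form
-/

set_option linter.style.haveILetI false
set_option backward.isDefEq.respectTransparency false
set_option backward.isDefEq.respectTransparency.types false
set_option maxHeartbeats 1000000

universe u

open CategoryTheory CategoryTheory.Limits AlgebraicGeometry TopologicalSpace

namespace Groth.Agent.MdlInter

variable {R : Type u} [CommRing R] [IsDomain R] [IsDiscreteValuationRing R]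
  {C X : Scheme.{u}} {f : C ⟶ Spec (CommRingCat.of (FractionRing R))} {p : X ⟶ Spec (CommRingCat.of R)}

theorem setting_of_model {n : ℕ} {Γ : Fin n → ArSurf.VertComp R (Over.mk p)}
    (hX : Models.IsRegularProperModel R X p C f) (hΓ : Models.IsComponentList R (Over.mk p) Γ) :
    Setting p Γ :=
  haveI := hX.1.2.1
  ⟨hX.2.2, hX.1.1, LocallyOfFiniteType.isLocallyNoetherian p, hΓ⟩

theorem isPreconnected_specialFibreSet
    (hH0 : IsIso f.appTop) (hX : Models.IsRegularProperModel R X p C f) :
    _root_.IsPreconnected (Models.specialFibreSet R (Over.mk p)) ∧ (Models.specialFibreSet R (Over.mk p)).Nonempty := by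
  haveI : ConnectedSpace ↥(Models.specialFibre R X p) := by
    obtain ⟨⟨hflat, -, -, g, hg⟩, hproper, hreg⟩ := hX
    haveI := hflat; haveI := hproper
    haveI := DvrModel.geometricallyConnected_of_model f p hreg g hg
      (ConcreteCategory.bijective_of_isIso f.appTop)
    exact GeometricallyConnected.geometrically_connectedSpace (f := p)
      (Spec.map (CommRingCat.ofHom (algebraMap R (IsLocalRing.ResidueField R)))) _ _
      (IsPullback.of_hasPullback p _)
  let s : Spec (CommRingCat.of (IsLocalRing.ResidueField R)) ⟶ Spec (CommRingCat.of R) :=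
    Spec.map (CommRingCat.ofHom (algebraMap R (IsLocalRing.ResidueField R)))
  have hs : Set.range s = {IsLocalRing.closedPoint R} := by
    ext z
    simp only [Set.mem_range, Set.mem_singleton_iff]
    have key : ∀ w, s w = IsLocalRing.closedPoint R := by
      intro w
      have hw : w = IsLocalRing.closedPoint (IsLocalRing.ResidueField R) := Subsingleton.elim _ _
      rw [hw]
      exact IsLocalRing.comap_closedPoint (IsLocalRing.residue R)
    exact ⟨fun ⟨w, hw⟩ => hw ▸ key w, fun h => ⟨IsLocalRing.closedPoint (IsLocalRing.ResidueField R), h ▸ key _⟩⟩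
  have hr : Set.range (pullback.fst p s) = Models.specialFibreSet R (Over.mk p) := by
    rw [Scheme.Pullback.range_fst, hs]
    rfl
  rw [← hr]
  haveI hc : ConnectedSpace ↥(pullback p s) := ‹ConnectedSpace ↥(Models.specialFibre R X p)›
  exact ⟨isPreconnected_range (pullback.fst p s).continuous, Set.range_nonempty _⟩

theorem exists_meeting
    (hH0 : IsIso f.appTop) (hX : Models.IsRegularProperModel R X p C f)
    {n : ℕ} {Γ : Fin n → ArSurf.VertComp R (Over.mk p)} (hΓ : Models.IsComponentList R (Over.mk p) Γ)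
    (L : Fin n → X.Modules) (hL : ∀ i, ClSub.IsInverseOf (L i) (ClSub.idealMod (Γ i).ι.ker))
    (I : Finset (Fin n)) (hI : I.Nonempty) (hI' : I ≠ Finset.univ) :
    ∃ i ∈ I, ∃ j ∉ I, ArSurf.inter R (Over.mk p) (L j) (Γ i) ≠ 0 := by
  haveI := hX.2.1
  have S := setting_of_model hX hΓ
  obtain ⟨hconn, -⟩ := isPreconnected_specialFibreSet hH0 hX
  by_contra hcon
  push Not at hcon
  obtain ⟨i₀, hi₀⟩ := hI
  obtain ⟨j₀, hj₀⟩ : ∃ j, j ∉ I := by
    by_contra h
    push Not at h
    exact hI' (Finset.eq_univ_iff_forall.2 h)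
  let rg : Fin n → Set X := fun i => Set.range ((Γ i).ι.base : (Γ i).curve.left → X)
  have hcl : ∀ i, IsClosed (rg i) := fun i => (Γ i).ι.isClosedEmbedding.isClosed_range
  let A : Set X := ⋃ i ∈ I, rg i
  let B : Set X := ⋃ j ∈ Iᶜ, rg j
  have hA : IsClosed A := isClosed_biUnion_finset fun i _ => hcl i
  have hB : IsClosed B := isClosed_biUnion_finset fun i _ => hcl i
  have hmem : ∀ i, gp Γ i ∈ rg i := fun i => ⟨genericPoint (Γ i).curve.left, rfl⟩
  obtain ⟨x, -, hxA, hxB⟩ := isPreconnected_closed_iff.1 hconn A B hA hB (fun y hy => by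
      obtain ⟨i, hi⟩ := S.exists_gp hy
      have hy' : y ∈ rg i := (mem_range_iff (X := X) (Γ i).ι).2 hi
      by_cases hiI : i ∈ I
      · exact Or.inl (Set.mem_biUnion hiI hy')
      · exact Or.inr (Set.mem_biUnion (Finset.mem_compl.2 hiI) hy'))
    ⟨gp Γ i₀, S.gp_mem i₀, Set.mem_biUnion hi₀ (hmem i₀)⟩
    ⟨gp Γ j₀, S.gp_mem j₀, Set.mem_biUnion (Finset.mem_compl.2 hj₀) (hmem j₀)⟩
  simp only [A, B, Set.mem_iUnion] at hxA hxB
  obtain ⟨i, hi, hxi⟩ := hxA
  obtain ⟨j, hj, hxj⟩ := hxB
  have hij : i ≠ j := fun h => Finset.mem_compl.1 hj (h ▸ hi)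
  exact Set.disjoint_left.1 ((S.inter_eq_zero_iff L hL hij).1 (hcon i hi j (Finset.mem_compl.1 hj))) hxi hxj

end Groth.Agent.MdlInter

namespace Groth.Agent.MdlInter

variable {R : Type u} [CommRing R] [IsDomain R] [IsDiscreteValuationRing R]
  {X : Scheme.{u}} {p : X ⟶ Spec (CommRingCat.of R)}

theorem Setting.mult_pos {n : ℕ} {Γ : Fin n → ArSurf.VertComp R (Over.mk p)} (S : Setting p Γ) (i : Fin n) :
    0 < Models.mult R (Over.mk p) (Γ i) := by
  obtain ⟨ϖ, hϖ⟩ := IsDiscreteValuationRing.exists_irreducible R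
  obtain ⟨U, hU⟩ := exists_affine (gp Γ i)
  have h := stI_specialFibreIdeal p hϖ.maximalIdeal_eq U hU
  rw [S.specialFibreIdeal_eq, S.stI_prod_gp U i hU] at h
  rcases Nat.eq_zero_or_pos (Models.mult R (Over.mk p) (Γ i)) with h0 | h0
  · exfalso
    rw [h0, pow_zero, Ideal.one_eq_top, eq_comm, Ideal.span_singleton_eq_top] at h
    exact (isUnit_pi_iff p hϖ.maximalIdeal_eq _).2 (S.gp_mem i) h
  · exact h0

end Groth.Agent.MdlInter
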