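import Groth.Agent.H23.PicMul
import Groth.Agent.S15400
import Groth.Agent.FComplLib.IdealComap
import Groth.Agent.NormX.NilIdeal
import Groth.Agent.BlowSep.Basic
import Groth.Agent.MdlInter.Genus
import Mathlib.Dynamics.Newton
import Mathlib.GroupTheory.OrderOfElement

/-!
# Torsion classes and nilpotent thickenings
-/

set_option linter.style.haveILetI false
set_option linter.unusedSectionVars false
set_option backward.isDefEq.respectTransparency false
set_option backward.isDefEq.respectTransparency.types false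
set_option maxHeartbeats 1000000

universe u

open CategoryTheory CategoryTheory.Limits AlgebraicGeometry TopologicalSpace
open Groth.Agent.H23.PicMul
open scoped Groth.Agent.H23.PicMul

noncomputable section

namespace Groth.Agent.MdlInter

open Groth.Agent

theorem eq_one_of_coprime {M : Type*} [Monoid M] {a : M} {m n : ℕ} (h : Nat.Coprime m n) (hm : a ^ m = 1)
    (hn : a ^ n = 1) : a = 1 := by
  have := (pow_gcd_eq_one (a := a)).2 ⟨hm, hn⟩
  rwa [show Nat.gcd m n = 1 from h, pow_one] at this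

theorem idealSheaf_pow_le {T : Scheme.{u}} (N : T.IdealSheafData) {m n : ℕ} (h : m ≤ n) : N ^ n ≤ N ^ m := fun U => by
  rw [Scheme.IdealSheafData.ideal_pow, Scheme.IdealSheafData.ideal_pow, Pi.pow_apply, Pi.pow_apply]
  exact Ideal.pow_le_pow_right h

/-- The step: a first order thickening. -/
theorem eq_one_of_squareZero {T : Scheme.{u}} (I : T.IdealSheafData) (hI : I * I = ⊥) (h : ℕ)
    (hh : IsUnit (h : Γ(T, ⊤)))
    (hU : ∀ v : (Γ(I.subscheme, ⊤))ˣ, ∃ (q : ℕ) (w : (Γ(I.subscheme, ⊤))ˣ) (r : (Γ(T, ⊤))ˣ),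
      Nat.Coprime q h ∧ v ^ q = w ^ h * Units.map I.subschemeι.appTop.hom.toMonoidHom r)
    {c : PicF.Cl T} (hc : PicF.IsInvertibleCl c) (hch : c ^ h = 1)
    (hpull : H23.PicMul.pullHom I.subschemeι c = 1) : c = 1 := by
  letI := H23.PicMul.law T
  letI := H23.PicMul.law I.subscheme
  obtain ⟨ε, δ₀, α, δ₁, -, -, hδ, hα, hker, -⟩ := S15400.result T I hI (H23.PicMul.pullMul _)
  let a : PicLoc.PicSet T := ⟨c, hc⟩
  have hval : ∀ n : ℕ, (a ^ n).1 = c ^ n := by
    intro n
    induction n with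
    | zero => rw [pow_zero, pow_zero]; rfl
    | succ n ih => rw [pow_succ, pow_succ, ← ih]; rfl
  have hah : a ^ h = 1 := Subtype.ext ((hval h).trans hch)
  have hak : a ∈ (PicGrp.pullHom I.subschemeι (H23.PicMul.pullMul _)).ker := Subtype.ext hpull
  rw [hker] at hak
  obtain ⟨x, hx⟩ := hak
  have hxh : x ^ h ∈ α.ker := by rw [MonoidHom.mem_ker, map_pow, hx, hah]
  rw [hα] at hxh
  obtain ⟨v, hv⟩ := hxh
  obtain ⟨q, w, r, hq, hvr⟩ := hU v
  have hr : δ₀ (Units.map I.subschemeι.appTop.hom.toMonoidHom r) = 1 := by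
    rw [← MonoidHom.mem_ker, hδ]
    exact ⟨r, rfl⟩
  have h1 : (x ^ q * (δ₀ w)⁻¹) ^ h = 1 := by
    rw [mul_pow, inv_pow, ← map_pow, ← pow_mul, mul_comm q h, pow_mul, ← hv, ← map_pow, hvr, map_mul, hr, mul_one,
      mul_inv_cancel]
  have h2 : x ^ q * (δ₀ w)⁻¹ = 1 := by
    have h3 : ∀ y : Coh.HH T (ClSub.idealMod I) 1, h • y = 0 → y = 0 := fun y hy => by
      rw [← Nat.cast_smul_eq_nsmul (Coh.Γtop T)] at hy
      exact (IsUnit.smul_eq_zero (show IsUnit (h : Coh.Γtop T) from hh)).1 hy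
    exact Multiplicative.toAdd.injective (h3 _ (by rw [← toAdd_pow, h1]; rfl))
  have haq : a ^ q = 1 := by
    rw [← hx, ← map_pow, mul_inv_eq_one.1 h2, ← MonoidHom.mem_ker, hα]
    exact ⟨w, rfl⟩
  exact congrArg Subtype.val (eq_one_of_coprime (M := PicLoc.PicSet T) hq haq hah)

/-- Units of a thickening, up to powers prime to `h`. -/
theorem exists_root_of_thickening {Z T : Scheme.{u}} (z : Z ⟶ T) [Surjective z] [CompactSpace T]
    (h : ℕ) (hh : IsUnit (h : Γ(T, ⊤))) (v : (Γ(T, ⊤))ˣ) (hv : z.appTop (v : Γ(T, ⊤)) = 1) :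
    ∃ w : (Γ(T, ⊤))ˣ, v = w ^ h := by
  have hnil : IsNilpotent ((v : Γ(T, ⊤)) - 1) := by
    rw [Scheme.isNilpotent_iff_basicOpen_eq_bot]
    refine eq_bot_iff.2 fun y hy => ?_
    obtain ⟨y', rfl⟩ := z.surjective y
    have : y' ∈ z ⁻¹ᵁ T.basicOpen ((v : Γ(T, ⊤)) - 1) := hy
    rw [Scheme.preimage_basicOpen] at this
    have h0 : z.app ⊤ ((v : Γ(T, ⊤)) - 1) = 0 := by
      rw [map_sub, map_one]
      exact sub_eq_zero.2 hv
    rw [h0, Scheme.basicOpen_zero] at this
    exact this.elim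
  let P : Polynomial Γ(T, ⊤) := Polynomial.X ^ h - Polynomial.C (v : Γ(T, ⊤))
  obtain ⟨w, ⟨-, hw⟩, -⟩ := Polynomial.existsUnique_nilpotent_sub_and_aeval_eq_zero (P := P) (x := (1 : Γ(T, ⊤)))
    (by
      simp only [P, map_sub, map_pow, Polynomial.aeval_X, Polynomial.aeval_C, one_pow, Algebra.algebraMap_self,
        RingHom.id_apply]
      rw [show (1 : Γ(T, ⊤)) - (v : Γ(T, ⊤)) = -((v : Γ(T, ⊤)) - 1) by ring]
      exact hnil.neg)
    (by
      simp only [P, Polynomial.derivative_sub, Polynomial.derivative_X_pow, Polynomial.derivative_C, sub_zero,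
        map_mul, map_pow, Polynomial.aeval_X, one_pow, mul_one, map_natCast]
      exact hh)
  simp only [P, map_sub, map_pow, Polynomial.aeval_X, Polynomial.aeval_C, Algebra.algebraMap_self,
    RingHom.id_apply, sub_eq_zero] at hw
  rcases Nat.eq_zero_or_pos h with rfl | hpos
  · exact ⟨1, Units.ext (by rw [← hw]; simp)⟩
  · obtain ⟨w', rfl⟩ := (isUnit_pow_iff hpos.ne').1 (hw ▸ v.isUnit)
    exact ⟨w', Units.ext hw.symm⟩

variable {R : Type u} [CommRing R]

theorem eq_one_of_nilpotent {Z : Scheme.{u}} (zR : Z ⟶ Spec (CommRingCat.of R)) (h : ℕ) (hhR : IsUnit (h : R))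
    (hred : ∀ u : (Γ(Z, ⊤))ˣ, ∃ (n : ℕ) (r : Rˣ), Nat.Coprime n h ∧ (u : Γ(Z, ⊤)) ^ n = Coh.toGlobal zR (r : R))
    (e : ℕ) : ∀ (T : Scheme.{u}) (q : T ⟶ Spec (CommRingCat.of R)) (z : Z ⟶ T) [IsClosedImmersion z] [Surjective z]
      [CompactSpace T], z ≫ q = zR → z.ker ^ (e + 1) = ⊥ → ∀ c : PicF.Cl T, PicF.IsInvertibleCl c → c ^ h = 1 →
      H23.PicMul.pullHom z c = 1 → c = 1 := by
  induction e with
  | zero =>
    intro T q z _ _ _ _ hN c _ _ hz
    rw [zero_add, pow_one] at hN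
    haveI : IsIso z := IsClosedImmersion.isIso_of_ker_eq z (𝟙 T) z (Category.comp_id z) (hN.trans (Scheme.Hom.ker_eq_bot_of_isIso (𝟙 T)).symm)
    have h1 : H23.PicMul.pullHom (inv z) (H23.PicMul.pullHom z c) = c := by
      show PicF.pullCl (inv z) (PicF.pullCl z c) = c
      rw [← PicLoc.pullCl_comp, IsIso.inv_hom_id, PicLoc.pullCl_id]
    rw [← h1, hz, map_one]
  | succ e ih =>
    intro T q z _ _ _ hq hN c hc hch hz
    let I : T.IdealSheafData := z.ker ^ (e + 1)
    have hI : I * I = ⊥ := by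
      refine le_bot_iff.1 (le_of_le_of_eq ?_ hN)
      rw [← pow_add]
      exact idealSheaf_pow_le z.ker (by omega)
    have hle : I.subschemeι.ker ≤ z.ker := by
      rw [Scheme.IdealSheafData.ker_subschemeι]
      exact (idealSheaf_pow_le z.ker (show 1 ≤ e + 1 by omega)).trans (pow_one _).le
    let z0 : Z ⟶ I.subscheme := IsClosedImmersion.lift I.subschemeι z hle
    have hz0 : z0 ≫ I.subschemeι = z := IsClosedImmersion.lift_fac _ _ _
    haveI : IsClosedImmersion z0 := by
      haveI : IsClosedImmersion (z0 ≫ I.subschemeι) := hz0 ▸ inferInstance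
      exact IsClosedImmersion.of_comp_isClosedImmersion z0 I.subschemeι
    haveI : Surjective z0 := ⟨fun y => by
      obtain ⟨y', hy'⟩ := z.surjective (I.subschemeι y)
      exact ⟨y', I.subschemeι.isClosedEmbedding.injective (by rw [← hy', ← hz0]; rfl)⟩⟩
    haveI : CompactSpace I.subscheme := I.subschemeι.isClosedEmbedding.compactSpace
    have hpb : IsPullback z0 (𝟙 Z) I.subschemeι z :=
      IsPullback.of_vert_isIso_mono ⟨by rw [Category.id_comp, hz0]⟩
    have hk0 : z0.ker = z.ker.comap I.subschemeι := by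
      rw [← Scheme.IdealSheafData.ker_fst_of_isClosedImmersion z I.subschemeι, ← hpb.isoPullback_hom_fst,
        Scheme.Hom.ker_comp_of_isIso]
    have hN0 : z0.ker ^ (e + 1) = ⊥ := by
      rw [hk0, ← FComplLib.comap_pow]
      exact BlowSep.comap_subschemeι_self I
    have hhT : IsUnit (h : Γ(T, ⊤)) := by
      have := hhR.map (Coh.toGlobal q)
      rwa [map_natCast] at this
    have hh0 : IsUnit (h : Γ(I.subscheme, ⊤)) := by
      have := hhT.map I.subschemeι.appTop.hom
      rwa [map_natCast] at this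
    have hq0 : z0 ≫ I.subschemeι ≫ q = zR := by rw [← Category.assoc, hz0, hq]
    refine eq_one_of_squareZero I hI h hhT (fun v => ?_) hc hch
      (ih I.subscheme (I.subschemeι ≫ q) z0 hq0 hN0 _ (PicLoc.isInvertibleCl_pullCl _ hc)
        (by rw [← map_pow, hch, map_one]) ?_)
    · obtain ⟨n, r, hn, hr⟩ := hred (Units.map z0.appTop.hom.toMonoidHom v)
      let rT : (Γ(T, ⊤))ˣ := Units.map (Coh.toGlobal q).toMonoidHom r
      let r0 := Units.map I.subschemeι.appTop.hom.toMonoidHom rT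
      have h1 : z0.appTop ((v ^ n * r0⁻¹ : (Γ(I.subscheme, ⊤))ˣ) : Γ(I.subscheme, ⊤)) = 1 := by
        have h2 : Units.map z0.appTop.hom.toMonoidHom (v ^ n) = Units.map z0.appTop.hom.toMonoidHom r0 := by
          refine Units.ext ?_
          rw [map_pow, Units.val_pow_eq_pow_val]
          refine hr.trans ?_
          rw [← hq0, toGlobal_comp_left, toGlobal_comp_left]
          rfl
        show ((Units.map z0.appTop.hom.toMonoidHom) (v ^ n * r0⁻¹) : Γ(Z, ⊤)) = 1
        rw [map_mul, map_inv, h2, mul_inv_cancel]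
        rfl
      obtain ⟨w, hw⟩ := exists_root_of_thickening z0 h hh0 _ h1
      exact ⟨n, w, rT, hn, by rw [← hw, inv_mul_cancel_right]⟩
    · show PicF.pullCl z0 (PicF.pullCl I.subschemeι c) = 1
      rw [← PicLoc.pullCl_comp, hz0]
      exact hz

end Groth.Agent.MdlInter
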