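import Mathlib

/-!
# Ideals between a power of `f` and the unit ideal in a factorial domain
-/

set_option linter.style.haveILetI false
set_option linter.unusedSectionVars false

universe u v

namespace Groth.Agent.MdlInter

variable {B : Type u} [CommRing B] [IsDomain B] [UniqueFactorizationMonoid B]
variable {ι : Type v} [Fintype ι]

/-- Every member of a family of incomparable primes through which all primes over `f ≠ 0` pass is principal. -/
theorem exists_prime_span {f : B} (hf : f ≠ 0) (q : ι → Ideal B)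
    (hfq : ∀ i, (q i).IsPrime → f ∈ q i)
    (hinc : ∀ i j, (q i).IsPrime → (q j).IsPrime → q j ≤ q i → i = j)
    (hmin : ∀ Q : Ideal B, Q.IsPrime → f ∈ Q → ∃ i, (q i).IsPrime ∧ q i ≤ Q)
    (i : ι) (hi : (q i).IsPrime) : ∃ r, Prime r ∧ q i = Ideal.span {r} := by
  have hdiv : ∀ g : B, g ∈ q i → g ≠ 0 → ∀ h : g ∣ f, ∃ r, Prime r ∧ r ∈ q i ∧ r ∣ f := by
    intro g
    induction g using UniqueFactorizationMonoid.induction_on_prime with
    | h₁ => intro _ h; exact absurd rfl h
    | h₂ x hx => intro h; exact absurd (Ideal.eq_top_of_isUnit_mem _ h hx) hi.ne_top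
    | h₃ a p ha hp IH =>
      intro h _ hd
      rcases hi.mem_or_mem h with h1 | h1
      · exact ⟨p, hp, h1, (Dvd.intro _ rfl).trans hd⟩
      · exact IH h1 ha ((Dvd.intro_left _ rfl).trans hd)
  obtain ⟨r, hr, hrq, hrf⟩ := hdiv f (hfq i hi) hf dvd_rfl
  obtain ⟨j, hj, hjr⟩ := hmin (Ideal.span {r}) ((Ideal.span_singleton_prime hr.ne_zero).2 hr)
    (Ideal.mem_span_singleton.2 hrf)
  have hle : Ideal.span {r} ≤ q i := (Ideal.span_singleton_le_iff_mem _).2 hrq
  have hij : i = j := hinc i j hi hj (hjr.trans hle)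
  subst hij
  exact ⟨r, hr, le_antisymm hjr hle⟩

/-- An element dividing a power of `f` generates a product of powers of these primes. -/
theorem exists_exponents {f : B} (hf : f ≠ 0) (q : ι → Ideal B)
    (hfq : ∀ i, (q i).IsPrime → f ∈ q i)
    (hinc : ∀ i j, (q i).IsPrime → (q j).IsPrime → q j ≤ q i → i = j)
    (hmin : ∀ Q : Ideal B, Q.IsPrime → f ∈ Q → ∃ i, (q i).IsPrime ∧ q i ≤ Q)
    {g : B} {N : ℕ} (hg : g ∣ f ^ N) : ∃ e : ι → ℕ, Ideal.span {g} = ∏ i, q i ^ e i := by
  classical
  induction g using UniqueFactorizationMonoid.induction_on_prime with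
  | h₁ => exact absurd (zero_dvd_iff.1 hg) (pow_ne_zero N hf)
  | h₂ x hx =>
    refine ⟨0, ?_⟩
    rw [Ideal.span_singleton_eq_top.2 hx]
    simp [← Ideal.one_eq_top]
  | h₃ a p ha hp IH =>
    obtain ⟨e, he⟩ := IH ((Dvd.intro_left _ rfl).trans hg)
    have hpf : p ∣ f := hp.dvd_of_dvd_pow ((Dvd.intro _ rfl).trans hg)
    obtain ⟨i, hi, hle⟩ := hmin (Ideal.span {p}) ((Ideal.span_singleton_prime hp.ne_zero).2 hp)
      (Ideal.mem_span_singleton.2 hpf)
    obtain ⟨r, hr, hrq⟩ := exists_prime_span hf q hfq hinc hmin i hi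
    rw [hrq, Ideal.span_singleton_le_span_singleton] at hle
    have hass : Associated p r := hp.associated_of_dvd hr hle
    refine ⟨e + Pi.single i 1, ?_⟩
    have hpe : Ideal.span {p} = q i := by rw [hrq, Ideal.span_singleton_eq_span_singleton]; exact hass
    calc Ideal.span {p * a} = Ideal.span {p} * Ideal.span {a} := (Ideal.span_singleton_mul_span_singleton p a).symm
      _ = q i * ∏ j, q j ^ e j := by rw [he, hpe]
      _ = (∏ j, q j ^ (Pi.single i 1 : ι → ℕ) j) * ∏ j, q j ^ e j := by
        congr 1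
        rw [Finset.prod_eq_single i (fun j _ hj => by rw [Pi.single_eq_of_ne hj, pow_zero])
          (fun h => absurd (Finset.mem_univ i) h), Pi.single_eq_same, pow_one]
      _ = ∏ j, q j ^ (e + Pi.single i 1 : ι → ℕ) j := by
        rw [← Finset.prod_mul_distrib]
        exact Finset.prod_congr rfl fun j _ => by rw [Pi.add_apply, pow_add, mul_comm]

omit [UniqueFactorizationMonoid B] in
/-- The length of the quotient by a power of a maximal principal ideal. -/
theorem length_quotient_pow {r : B} (hr : r ≠ 0) (hm : (Ideal.span {r}).IsMaximal) (e : ℕ) :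
    Module.length B (B ⧸ Ideal.span {r} ^ e) = e := by
  haveI := hm
  have h1 : Ring.ord B r = 1 := by
    haveI : IsSimpleModule B (B ⧸ Ideal.span {r}) := isSimpleModule_iff_isCoatom.2 hm.out
    exact Module.length_eq_one B _
  rw [Ideal.span_singleton_pow]
  have := Ring.ord_pow (R := B) (mem_nonZeroDivisors_of_ne_zero hr) e
  rw [h1] at this
  simpa [Ring.ord] using this

end Groth.Agent.MdlInter
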