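import Groth.Prelude.Def_ModelsG
import Groth.Agent.MdlInter.Ring
import Groth.Agent.DepthTwist.IdealPow
import Groth.Agent.MeroX.BlowSpec
import Groth.Agent.S2821
import Groth.Agent.S1570
import Groth.Agent.H23.P1Graph

/-!
# Divisors supported on the closed fibre of a regular flat scheme over a discrete valuation ring
-/

set_option linter.style.haveILetI false
set_option linter.unusedSectionVars false
set_option backward.isDefEq.respectTransparency false
set_option backward.isDefEq.respectTransparency.types false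
set_option maxHeartbeats 1000000

universe u

open CategoryTheory CategoryTheory.Limits AlgebraicGeometry TopologicalSpace

noncomputable section

namespace Groth.Agent.MdlInter

open Groth.Agent.DepthTwist (stI)

section Integral

variable {Γ X : Scheme.{u}} (ι : Γ ⟶ X) [IsClosedImmersion ι] [IsIntegral Γ]

/-- The generic point of an integral closed subscheme, in the ambient scheme. -/
def gen : X := ι (genericPoint Γ)

theorem range_eq_closure_gen : Set.range ι = closure {gen ι} := by
  rw [gen, ← Set.image_singleton, ι.isClosedEmbedding.closure_image_eq, (genericPoint_spec Γ).def,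
    Set.image_univ]

theorem mem_range_iff {x : X} : x ∈ Set.range ι ↔ gen ι ⤳ x := by
  rw [range_eq_closure_gen, specializes_iff_mem_closure]

/-- The germ at the generic point detects the ideal of an integral closed subscheme. -/
theorem mem_ker_iff (U : X.affineOpens) (hη : gen ι ∈ U.1) (a : Γ(X, U.1)) :
    a ∈ ι.ker.ideal U ↔ X.presheaf.germ U.1 (gen ι) hη a ∈ IsLocalRing.maximalIdeal (X.presheaf.stalk (gen ι)) := by
  rw [FComplLib.ideal_ker, RingHom.mem_ker, IsLocalRing.mem_maximalIdeal, mem_nonunits_iff]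
  have hg := Scheme.Hom.germ_stalkMap_apply ι U.1 (genericPoint Γ) hη a
  have hinj : Function.Injective (Γ.presheaf.germ (ι ⁻¹ᵁ U.1) (genericPoint Γ) hη).hom :=
    germ_injective_of_isIntegral Γ (genericPoint Γ) hη
  haveI : Nonempty (ι ⁻¹ᵁ U.1) := ⟨⟨genericPoint Γ, hη⟩⟩
  refine ⟨fun h hu => ?_, fun h => ?_⟩
  · have h' : IsUnit (Γ.presheaf.germ (ι ⁻¹ᵁ U.1) (genericPoint Γ) hη (ι.app U.1 a)) := by
      convert hu.map (ι.stalkMap (genericPoint Γ)).hom using 1
      exact hg.symm
    rw [show ι.app U.1 a = 0 from h, map_zero] at h'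
    exact not_isUnit_zero h'
  · by_contra hne
    apply h
    refine isUnit_of_map_unit (ι.stalkMap (genericPoint Γ)).hom _ ?_
    have h' : IsUnit (Γ.presheaf.germ (ι ⁻¹ᵁ U.1) (genericPoint Γ) hη (ι.app U.1 a)) :=
      isUnit_iff_ne_zero.2 fun h0 => hne (hinj (h0.trans (map_zero _).symm))
    convert h' using 1
    all_goals first | exact hg | rfl

theorem map_germ_comap {U : X.affineOpens} {x : X} (hx : x ∈ U.1) (J : Ideal (X.presheaf.stalk x)) :
    (J.comap (X.presheaf.germ U.1 x hx).hom).map (X.presheaf.germ U.1 x hx).hom = J := by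
  letI := X.presheaf.algebra_section_stalk (⟨x, hx⟩ : U.1)
  haveI := U.2.isLocalization_stalk ⟨x, hx⟩
  exact IsLocalization.map_comap (U.2.primeIdealOf ⟨x, hx⟩).asIdeal.primeCompl _ J

theorem map_specializes {y x : X} (h : y ⤳ x) (D : X.IdealSheafData) (U : X.affineOpens) (hx : x ∈ U.1) :
    (stI D U hx).map (X.presheaf.stalkSpecializes h).hom = stI D U (h.mem_open U.1.2 hx) := by
  rw [stI, stI, Ideal.map_map, ← CommRingCat.hom_comp]
  congr 2
  exact X.presheaf.germ_stalkSpecializes hx h

/-- At a specialisation of its generic point the ideal of an integral closed subscheme is that prime. -/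
theorem stI_of_specializes (U : X.affineOpens) {x : X} (hx : x ∈ U.1) (h : gen ι ⤳ x) :
    stI ι.ker U hx =
      (IsLocalRing.maximalIdeal (X.presheaf.stalk (gen ι))).comap (X.presheaf.stalkSpecializes h).hom := by
  have hη : gen ι ∈ U.1 := h.mem_open U.1.2 hx
  have hid : ι.ker.ideal U = ((IsLocalRing.maximalIdeal (X.presheaf.stalk (gen ι))).comap
      (X.presheaf.stalkSpecializes h).hom).comap (X.presheaf.germ U.1 x hx).hom := by
    ext a
    rw [mem_ker_iff ι U hη, Ideal.mem_comap, Ideal.mem_comap]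
    rw [show (X.presheaf.stalkSpecializes h).hom ((X.presheaf.germ U.1 x hx).hom a) =
      X.presheaf.germ U.1 (gen ι) hη a from
        congrArg (fun f => f.hom a) (X.presheaf.germ_stalkSpecializes hx h)]
  rw [stI, hid, map_germ_comap]

theorem stI_of_not_specializes (U : X.affineOpens) {x : X} (hx : x ∈ U.1) (h : ¬ gen ι ⤳ x) :
    stI ι.ker U hx = ⊤ := by
  by_contra hne
  apply h
  rw [← mem_range_iff, ← ι.isClosedEmbedding.isClosed_range.closure_eq, ← Scheme.Hom.support_ker]
  rw [SetLike.mem_coe, Scheme.IdealSheafData.mem_support_iff_of_mem hx, Scheme.mem_zeroLocus_iff]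
  intro a ha hmem
  rw [Scheme.mem_basicOpen _ _ _ hx] at hmem
  exact hne (Ideal.eq_top_of_isUnit_mem _ (Ideal.mem_map_of_mem _ ha) hmem)

theorem stI_gen (U : X.affineOpens) (hη : gen ι ∈ U.1) :
    stI ι.ker U hη = IsLocalRing.maximalIdeal (X.presheaf.stalk (gen ι)) := by
  rw [stI_of_specializes ι U hη specializes_rfl]
  rw [TopCat.Presheaf.stalkSpecializes_refl]
  exact Ideal.comap_id _

end Integral

variable {R : Type u} [CommRing R] [IsDomain R] [IsDiscreteValuationRing R]
  {X : Scheme.{u}} (p : X ⟶ Spec (CommRingCat.of R))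

/-- The standing hypotheses: `X` regular, flat and of finite type over `R`, with listed fibre components. -/
structure Setting {n : ℕ} (Γ : Fin n → ArSurf.VertComp R (Over.mk p)) : Prop where
  reg : ∀ x : X, IsRegularLocalRing (X.presheaf.stalk x)
  flat : Flat p
  noeth : IsLocallyNoetherian X
  list : Models.IsComponentList R (Over.mk p) Γ

/-- A chosen uniformiser in the local ring at `x`. -/
def pi (ϖ : R) (x : X) : X.presheaf.stalk x := Models.stalkHom R (Over.mk p) x ϖ

theorem pi_germ (ϖ : R) (U : X.Opens) {x : X} (hx : x ∈ U) :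
    X.presheaf.germ U x hx (X.presheaf.map (homOfLE (le_top : U ≤ ⊤)).op (Coh.toGlobal p ϖ)) = pi p ϖ x :=
  TopCat.Presheaf.germ_res_apply X.presheaf _ x hx _

theorem stI_specialFibreIdeal {ϖ : R} (hϖ : IsLocalRing.maximalIdeal R = Ideal.span {ϖ}) (U : X.affineOpens)
    {x : X} (hx : x ∈ U.1) :
    stI (Models.specialFibreIdeal R (Over.mk p)) U hx = Ideal.span {pi p ϖ x} := by
  rw [stI, Models.specialFibreIdeal, MeroX.ideal_comap_idealSheaf, Ideal.map_map, hϖ, Ideal.map_span,
    Set.image_singleton, ← pi_germ p ϖ U.1 hx]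
  rfl

theorem isUnit_pi_iff {ϖ : R} (hϖ : IsLocalRing.maximalIdeal R = Ideal.span {ϖ}) (x : X) :
    ¬ IsUnit (pi p ϖ x) ↔ x ∈ Models.specialFibreSet R (Over.mk p) := by
  have h1 : IsUnit (pi p ϖ x) ↔ p x ∈ (PrimeSpectrum.basicOpen ϖ : Opens (PrimeSpectrum R)) := by
    have h := Scheme.mem_basicOpen X (Coh.toGlobal p ϖ) x (Opens.mem_top x)
    have h' : X.basicOpen (Coh.toGlobal p ϖ) = p ⁻¹ᵁ (PrimeSpectrum.basicOpen ϖ) := by
      exact ((congrArg (fun O => p ⁻¹ᵁ O) (basicOpen_eq_of_affine ϖ)).symm.trans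
        (Scheme.preimage_basicOpen p _)).symm
    exact h.symm.trans (by rw [h']; rfl)
  rw [h1, Models.specialFibreSet, Set.mem_preimage, Set.mem_singleton_iff]
  refine ⟨fun h => ?_, fun h hm => ?_⟩
  · apply PrimeSpectrum.ext
    refine (IsLocalRing.eq_maximalIdeal ?_)
    refine Ideal.IsPrime.isMaximal inferInstance fun h0 => ?_
    apply h
    intro hmem
    have : ϖ ∈ IsLocalRing.maximalIdeal R := hϖ ▸ Ideal.mem_span_singleton_self ϖ
    have hne : ϖ ≠ 0 := fun hz => IsDiscreteValuationRing.not_a_field R (by rw [hϖ, hz]; simp)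
    exact hne ((Submodule.mem_bot R).1 (h0 ▸ hmem))
  · apply hm
    have h' : (p x : PrimeSpectrum R) = IsLocalRing.closedPoint R := h
    rw [h']
    show ϖ ∈ IsLocalRing.maximalIdeal R
    rw [hϖ]
    exact Ideal.mem_span_singleton_self ϖ

theorem pi_ne_zero [Flat p] {ϖ : R} (hϖ : ϖ ≠ 0) (x : X) : pi p ϖ x ≠ 0 := by
  intro h0
  obtain ⟨_, ⟨W, hW, rfl⟩, hxW, -⟩ := X.isBasis_affineOpens.exists_subset_of_mem_open
    (Set.mem_univ x) isOpen_univ
  rw [← pi_germ p ϖ W hxW] at h0
  obtain ⟨V, hxV, i, j, hV⟩ := TopCat.Presheaf.germ_eq X.presheaf x hxW hxW _ 0 (h0.trans (map_zero _).symm)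
  rw [map_zero] at hV
  obtain ⟨_, ⟨W', hW', rfl⟩, hxW', hle⟩ := X.isBasis_affineOpens.exists_subset_of_mem_open
    (show x ∈ (V : Set X) from hxV) V.2
  have hflat : ((p.appLE ⊤ W' le_top).hom.comp (Scheme.ΓSpecIso (CommRingCat.of R)).inv.hom).Flat :=
    RingHom.Flat.comp (RingHom.Flat.of_bijective
      (ConcreteCategory.bijective_of_isIso (Scheme.ΓSpecIso (CommRingCat.of R)).inv))
      (Flat.flat_appLE p (isAffineOpen_top _) hW' le_top)
  letI := ((p.appLE ⊤ W' le_top).hom.comp (Scheme.ΓSpecIso (CommRingCat.of R)).inv.hom).toAlgebra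
  haveI : Module.Flat R Γ(X, W') := hflat
  haveI : Nonempty W' := ⟨⟨x, hxW'⟩⟩
  have hz : algebraMap R Γ(X, W') ϖ = 0 := by
    have h2 := congrArg (X.presheaf.map (homOfLE (show W' ≤ V from hle)).op).hom hV
    rw [map_zero] at h2
    rw [← h2]
    simp only [RingHom.algebraMap_toAlgebra, RingHom.comp_apply, ← ConcreteCategory.comp_apply]
    simp only [Coh.toGlobal, RingHom.comp_apply, Scheme.Hom.appLE]
    simp only [← ConcreteCategory.comp_apply, ← Functor.map_comp]
    rfl
  have h1 : (1 : Γ(X, W')) = 0 := by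
    have := Module.IsTorsionFree.isSMulRegular (R := R) (M := Γ(X, W'))
      (IsRegular.of_ne_zero hϖ)
    exact this (show ϖ • (1 : Γ(X, W')) = ϖ • 0 by rw [Algebra.smul_def, hz, zero_mul, smul_zero])
  exact one_ne_zero h1

end Groth.Agent.MdlInter
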