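import Groth.Agent.MdlInter.Fibre
import Groth.Agent.RegLoc6.Basic

/-!
# The components of the closed fibre as divisors
-/

set_option linter.style.haveILetI false
set_option linter.unusedSectionVars false
set_option backward.isDefEq.respectTransparency false
set_option backward.isDefEq.respectTransparency.types false
set_option maxHeartbeats 1000000

universe u

open CategoryTheory CategoryTheory.Limits AlgebraicGeometry TopologicalSpace

noncomputable section

namespace Groth.Agent.MdlInter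

open Groth.Agent.DepthTwist (stI)

theorem stI_one {X : Scheme.{u}} (U : X.affineOpens) {x : X} (hx : x ∈ U.1) :
    stI (1 : X.IdealSheafData) U hx = ⊤ := by
  simp [stI, Scheme.IdealSheafData.one_eq_top, Ideal.map_top]

theorem stI_mul {X : Scheme.{u}} (I J : X.IdealSheafData) (U : X.affineOpens) {x : X} (hx : x ∈ U.1) :
    stI (I * J) U hx = stI I U hx * stI J U hx := by
  simp only [stI]
  rw [Scheme.IdealSheafData.ideal_mul, Pi.mul_apply, Ideal.map_mul]

theorem stI_pow {X : Scheme.{u}} (I : X.IdealSheafData) (k : ℕ) (U : X.affineOpens) {x : X} (hx : x ∈ U.1) :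
    stI (I ^ k) U hx = stI I U hx ^ k := by
  simp only [stI]
  rw [Scheme.IdealSheafData.ideal_pow, Pi.pow_apply, Ideal.map_pow]

theorem stI_prod {X : Scheme.{u}} {α : Type*} (s : Finset α) (I : α → X.IdealSheafData) (U : X.affineOpens)
    {x : X} (hx : x ∈ U.1) :
    stI (∏ i ∈ s, I i) U hx = ∏ i ∈ s, stI (I i) U hx := by
  classical
  induction s using Finset.induction_on with
  | empty => rw [Finset.prod_empty, Finset.prod_empty, stI_one, Ideal.one_eq_top]
  | insert a s ha IH => rw [Finset.prod_insert ha, Finset.prod_insert ha, stI_mul, IH]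

theorem ext_stI {X : Scheme.{u}} {D E : X.IdealSheafData}
    (h : ∀ (U : X.affineOpens) (x : X) (hx : x ∈ U.1), stI D U hx = stI E U hx) : D = E := by
  refine Scheme.IdealSheafData.ext (funext fun U => ?_)
  exact U.2.ideal_ext_iff.2 fun x hx => h U x hx

theorem exists_affine {X : Scheme.{u}} (x : X) : ∃ U : X.affineOpens, x ∈ U.1 := by
  obtain ⟨_, ⟨W, hW, rfl⟩, hxW, -⟩ := X.isBasis_affineOpens.exists_subset_of_mem_open
    (Set.mem_univ x) isOpen_univ
  exact ⟨⟨W, hW⟩, hxW⟩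

variable {R : Type u} [CommRing R] [IsDomain R] [IsDiscreteValuationRing R]
  {X : Scheme.{u}} {p : X ⟶ Spec (CommRingCat.of R)} {n : ℕ} {Γ : Fin n → ArSurf.VertComp R (Over.mk p)}

/-- The ideal of the `i`-th component. -/
abbrev comp (Γ : Fin n → ArSurf.VertComp R (Over.mk p)) (i : Fin n) : X.IdealSheafData :=
  Scheme.Hom.ker (Y := X) (Γ i).ι

/-- The generic point of the `i`-th component. -/
abbrev gp (Γ : Fin n → ArSurf.VertComp R (Over.mk p)) (i : Fin n) : X := gen (X := X) (Γ i).ι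

theorem genPtOf_eq (i : Fin n) : Models.genPtOf R (Over.mk p) (Γ i) = gp Γ i := rfl

namespace Setting

variable (S : Setting p Γ)
include S

theorem component_eq (i : Fin n) :
    Set.range ((Γ i).ι.base : (Γ i).curve.left → X) = closure {gp Γ i} :=
  range_eq_closure_gen (X := X) (Γ i).ι

theorem gp_mem (i : Fin n) : gp Γ i ∈ Models.specialFibreSet R (Over.mk p) := by
  have h : Set.range ((Γ i).ι.base : (Γ i).curve.left → X) ∈ Models.fibreComponents R (Over.mk p) :=
    S.list.2 ▸ ⟨i, rfl⟩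
  exact h.1.2 ⟨genericPoint (Γ i).curve.left, rfl⟩

theorem eq_of_specializes {i j : Fin n} (h : gp Γ i ⤳ gp Γ j) : i = j := by
  have hi : Set.range ((Γ i).ι.base : (Γ i).curve.left → X) ∈ Models.fibreComponents R (Over.mk p) :=
    S.list.2 ▸ ⟨i, rfl⟩
  have hj : Set.range ((Γ j).ι.base : (Γ j).curve.left → X) ∈ Models.fibreComponents R (Over.mk p) :=
    S.list.2 ▸ ⟨j, rfl⟩
  have hle : Set.range ((Γ j).ι.base : (Γ j).curve.left → X) ≤
      Set.range ((Γ i).ι.base : (Γ i).curve.left → X) := by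
    rw [S.component_eq, S.component_eq]
    exact h.closure_subset
  exact S.list.1 (le_antisymm (hj.2 hi.1 hle) hle)

theorem exists_gp {y : X} (hy : y ∈ Models.specialFibreSet R (Over.mk p)) : ∃ i, gp Γ i ⤳ y := by
  let F : Set X := Models.specialFibreSet R (Over.mk p)
  let y' : F := ⟨y, hy⟩
  have hirr : IsIrreducible (Subtype.val '' irreducibleComponent y' : Set X) :=
    isIrreducible_irreducibleComponent.image _ continuous_subtype_val.continuousOn
  have hmem : (Subtype.val '' irreducibleComponent y' : Set X) ∈ Models.fibreComponents R (Over.mk p) := by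
    refine ⟨⟨hirr, by rintro _ ⟨z, -, rfl⟩; exact z.2⟩, fun T hT hle => ?_⟩
    have hT' : IsIrreducible (Subtype.val ⁻¹' T : Set F) := by
      refine ⟨?_, ?_⟩
      · obtain ⟨t, ht⟩ := hT.1.nonempty
        exact ⟨⟨t, hT.2 ht⟩, ht⟩
      · intro u v hu hv hun hvn
        rw [isOpen_induced_iff] at hu hv
        obtain ⟨u', hu', rfl⟩ := hu
        obtain ⟨v', hv', rfl⟩ := hv
        obtain ⟨a, ha, ha'⟩ := hun
        obtain ⟨b, hb, hb'⟩ := hvn
        obtain ⟨c, hc, hc1, hc2⟩ := hT.1.isPreirreducible u' v' hu' hv' ⟨a.1, ha, ha'⟩ ⟨b.1, hb, hb'⟩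
        exact ⟨⟨c, hT.2 hc⟩, hc, hc1, hc2⟩
    have hsub : irreducibleComponent y' ⊆ (Subtype.val ⁻¹' T : Set F) := fun z hz => hle ⟨z, hz, rfl⟩
    have heq := eq_irreducibleComponent hT'.isPreirreducible hsub
    intro t ht
    exact ⟨⟨t, hT.2 ht⟩, heq ▸ ht, rfl⟩
  rw [← S.list.2] at hmem
  obtain ⟨i, hi⟩ := hmem
  have hy' : y ∈ (Subtype.val '' irreducibleComponent y' : Set X) := ⟨y', mem_irreducibleComponent, rfl⟩
  rw [← hi] at hy'
  exact ⟨i, (mem_range_iff (X := X) (Γ i).ι).1 hy'⟩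

theorem specializes_of_prime (U : X.affineOpens) {x : X} (hx : x ∈ U.1) {i : Fin n}
    (h : (stI (comp Γ i) U hx).IsPrime) : gp Γ i ⤳ x := by
  by_contra hne
  exact h.ne_top (stI_of_not_specializes _ U hx hne)

theorem isPrime_of_specializes (U : X.affineOpens) {x : X} (hx : x ∈ U.1) {i : Fin n}
    (h : gp Γ i ⤳ x) : (stI (comp Γ i) U hx).IsPrime := by
  rw [stI_of_specializes _ U hx h]
  exact Ideal.IsPrime.comap _

theorem map_toGp (U : X.affineOpens) {x : X} (hx : x ∈ U.1) {i j : Fin n} (h : gp Γ i ⤳ x) :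
    (stI (comp Γ j) U hx).map (X.presheaf.stalkSpecializes h).hom =
      stI (comp Γ j) U (h.mem_open U.1.2 hx) :=
  map_specializes h _ U hx

theorem stI_comp_gp (U : X.affineOpens) (i j : Fin n) (h : gp Γ i ∈ U.1) :
    stI (comp Γ j) U h = if j = i then IsLocalRing.maximalIdeal _ else ⊤ := by
  split_ifs with hji
  · subst hji
    exact stI_gen _ U h
  · exact stI_of_not_specializes _ U h fun hs => hji (S.eq_of_specializes hs)

theorem incomparable (U : X.affineOpens) {x : X} (hx : x ∈ U.1) (i j : Fin n)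
    (hi : (stI (comp Γ i) U hx).IsPrime) (_hj : (stI (comp Γ j) U hx).IsPrime)
    (hle : stI (comp Γ j) U hx ≤ stI (comp Γ i) U hx) : i = j := by
  have h := S.specializes_of_prime U hx hi
  by_contra hne
  have h' := Ideal.map_mono (f := (X.presheaf.stalkSpecializes h).hom) hle
  rw [S.map_toGp U hx h, S.map_toGp U hx h, S.stI_comp_gp U i i, S.stI_comp_gp U i j, if_pos rfl,
    if_neg (Ne.symm hne)] at h'
  exact (IsLocalRing.maximalIdeal.isMaximal _).ne_top (top_le_iff.1 h')

theorem pi_mem {ϖ : R} (hϖ : IsLocalRing.maximalIdeal R = Ideal.span {ϖ}) (U : X.affineOpens) {x : X}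
    (hx : x ∈ U.1) (i : Fin n) (hi : (stI (comp Γ i) U hx).IsPrime) : pi p ϖ x ∈ stI (comp Γ i) U hx := by
  have h := S.specializes_of_prime U hx hi
  rw [stI_of_specializes _ U hx h, Ideal.mem_comap, IsLocalRing.mem_maximalIdeal, mem_nonunits_iff]
  have : (X.presheaf.stalkSpecializes h).hom (pi p ϖ x) = pi p ϖ (gp Γ i) :=
    congrArg (fun f => f.hom (Coh.toGlobal p ϖ))
      (X.presheaf.germ_stalkSpecializes (U := ⊤) (Opens.mem_top x) h)
  rw [this]
  exact (isUnit_pi_iff p hϖ _).2 (S.gp_mem i)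

theorem exists_le_prime {ϖ : R} (hϖ : IsLocalRing.maximalIdeal R = Ideal.span {ϖ}) (U : X.affineOpens) {x : X}
    (hx : x ∈ U.1) (Q : Ideal (X.presheaf.stalk x)) [Q.IsPrime] (hQ : pi p ϖ x ∈ Q) :
    ∃ i, (stI (comp Γ i) U hx).IsPrime ∧ stI (comp Γ i) U hx ≤ Q := by
  let P : PrimeSpectrum Γ(X, U.1) := ⟨Q.comap (X.presheaf.germ U.1 x hx).hom, inferInstance⟩
  let y : X := U.2.fromSpec P
  have hyU : y ∈ U.1 := U.2.range_fromSpec.le ⟨P, rfl⟩
  have hyx : y ⤳ x := by
    suffices h1 : y ⤳ U.2.fromSpec (U.2.primeIdealOf ⟨x, hx⟩) from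
      h1.trans (specializes_of_eq (U.2.fromSpec_primeIdealOf ⟨x, hx⟩))
    refine Specializes.map ((PrimeSpectrum.le_iff_specializes _ _).1 ?_) U.2.fromSpec.continuous
    intro a ha
    by_contra hna
    letI := X.presheaf.algebra_section_stalk (⟨x, hx⟩ : U.1)
    haveI := U.2.isLocalization_stalk ⟨x, hx⟩
    exact Ideal.IsPrime.ne_top inferInstance (Ideal.eq_top_of_isUnit_mem Q ha
      (IsLocalization.map_units (X.presheaf.stalk x) (⟨a, hna⟩ : (U.2.primeIdealOf ⟨x, hx⟩).asIdeal.primeCompl)))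
  have hyF : y ∈ Models.specialFibreSet R (Over.mk p) := by
    rw [← isUnit_pi_iff p hϖ, ← pi_germ p ϖ U.1 hyU, ← Scheme.mem_basicOpen _ _ _ hyU]
    intro h
    have h2 : P ∈ U.2.fromSpec ⁻¹ᵁ X.basicOpen
        (X.presheaf.map (homOfLE (le_top : U.1 ≤ ⊤)).op (Coh.toGlobal p ϖ)) := h
    rw [U.2.fromSpec_preimage_basicOpen] at h2
    refine h2 ?_
    show (X.presheaf.germ U.1 x hx).hom _ ∈ Q
    convert hQ using 1
    exact pi_germ p ϖ U.1 hx
  obtain ⟨i, hi⟩ := S.exists_gp hyF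
  refine ⟨i, S.isPrime_of_specializes U hx (hi.trans hyx), Ideal.map_le_iff_le_comap.2 ?_⟩
  have hys : y ∈ ((comp Γ i).support : Set X) := by
    rw [comp, Scheme.Hom.support_ker]
    exact subset_closure ((mem_range_iff (X := X) (Γ i).ι).2 hi)
  rw [SetLike.mem_coe, Scheme.IdealSheafData.mem_support_iff_of_mem hyU] at hys
  have h2 : P ∈ PrimeSpectrum.zeroLocus ((comp Γ i).ideal U : Set Γ(X, U.1)) := by
    rw [← U.2.fromSpec_preimage_zeroLocus]
    exact hys
  exact h2

theorem isDomain_stalk (x : X) : IsDomain (X.presheaf.stalk x) :=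
  haveI := S.reg x
  RegLoc6.isDomain_of_isRegularLocalRing _

theorem ufm_stalk (x : X) : @UniqueFactorizationMonoid (X.presheaf.stalk x) _ :=
  haveI := S.reg x
  (S2821.result (X.presheaf.stalk x)).2

theorem exists_span {ϖ : R} (hϖ : IsLocalRing.maximalIdeal R = Ideal.span {ϖ}) (hϖ0 : ϖ ≠ 0)
    (U : X.affineOpens) {x : X} (hx : x ∈ U.1) (i : Fin n) :
    ∃ r, r ≠ 0 ∧ stI (comp Γ i) U hx = Ideal.span {r} := by
  haveI := S.isDomain_stalk x
  haveI := S.ufm_stalk x
  haveI := S.flat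
  by_cases h : gp Γ i ⤳ x
  · obtain ⟨r, hr, he⟩ := exists_prime_span (pi_ne_zero p hϖ0 x) (fun j => stI (comp Γ j) U hx)
      (fun j hj => S.pi_mem hϖ U hx j hj) (S.incomparable U hx)
      (fun Q hQ hm => @exists_le_prime _ _ _ _ _ _ _ _ S _ hϖ U x hx Q hQ hm) i (S.isPrime_of_specializes U hx h)
    exact ⟨r, hr.ne_zero, he⟩
  · exact ⟨1, one_ne_zero, (stI_of_not_specializes _ U hx h).trans Ideal.span_singleton_one.symm⟩

theorem exists_span_prod (U : X.affineOpens) {x : X} (hx : x ∈ U.1) (a : Fin n → ℕ) :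
    ∃ r, r ≠ 0 ∧ stI (∏ i, comp Γ i ^ a i) U hx = Ideal.span {r} := by
  obtain ⟨ϖ, hϖ⟩ := IsDiscreteValuationRing.exists_irreducible R
  haveI := S.isDomain_stalk x
  choose r hr he using fun i => S.exists_span hϖ.maximalIdeal_eq hϖ.ne_zero U hx i
  refine ⟨∏ i, r i ^ a i, Finset.prod_ne_zero_iff.2 fun i _ => pow_ne_zero _ (hr i), ?_⟩
  rw [stI_prod, ← Ideal.prod_span_singleton]
  exact Finset.prod_congr rfl fun i _ => by rw [stI_pow, he, Ideal.span_singleton_pow]

theorem isEffCartier_prod (a : Fin n → ℕ) : BlowUp.IsEffCartierIdeal (∏ i, comp Γ i ^ a i) := by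
  haveI := S.noeth
  refine S1570.result X _ fun x _ U hx => ?_
  haveI := S.isDomain_stalk x
  obtain ⟨r, hr, he⟩ := S.exists_span_prod U hx a
  exact ⟨r, mem_nonZeroDivisors_of_ne_zero hr, he⟩

theorem isEffCartier (i : Fin n) : BlowUp.IsEffCartierIdeal (comp Γ i) := by
  classical
  convert S.isEffCartier_prod (Pi.single i 1) using 1
  rw [Finset.prod_eq_single i (fun j _ hj => by rw [Pi.single_eq_of_ne hj, pow_zero])
    (fun h => absurd (Finset.mem_univ i) h), Pi.single_eq_same, pow_one]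

theorem stI_prod_gp (U : X.affineOpens) (i : Fin n) (h : gp Γ i ∈ U.1) (a : Fin n → ℕ) :
    stI (∏ j, comp Γ j ^ a j) U h = IsLocalRing.maximalIdeal _ ^ a i := by
  rw [stI_prod, Finset.prod_eq_single i (fun j _ hj => by rw [stI_pow, S.stI_comp_gp U i j, if_neg hj,
    ← Ideal.one_eq_top, one_pow]) (fun h' => absurd (Finset.mem_univ i) h'), stI_pow, S.stI_comp_gp U i i, if_pos rfl]

theorem length_gp (U : X.affineOpens) (i : Fin n) (h : gp Γ i ∈ U.1) (e : ℕ) :
    Module.length (X.presheaf.stalk (gp Γ i))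
      (X.presheaf.stalk (gp Γ i) ⧸ IsLocalRing.maximalIdeal (X.presheaf.stalk (gp Γ i)) ^ e) = e := by
  obtain ⟨ϖ, hϖ⟩ := IsDiscreteValuationRing.exists_irreducible R
  haveI := S.isDomain_stalk (gp Γ i)
  obtain ⟨r, hr, he⟩ := S.exists_span hϖ.maximalIdeal_eq hϖ.ne_zero U h i
  rw [S.stI_comp_gp U i i, if_pos rfl] at he
  rw [he]
  exact length_quotient_pow hr (he ▸ IsLocalRing.maximalIdeal.isMaximal _) e

theorem eq_of_prod_eq {a b : Fin n → ℕ} (h : ∏ i, comp Γ i ^ a i = ∏ i, comp Γ i ^ b i) : a = b := by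
  funext i
  obtain ⟨U, hU⟩ := exists_affine (gp Γ i)
  have h1 := congrArg (fun D => stI D U hU) h
  simp only [S.stI_prod_gp U i hU] at h1
  have h2 := S.length_gp U i hU (a i)
  rw [h1, S.length_gp U i hU (b i)] at h2
  exact_mod_cast h2.symm

/-- An ideal sheaf whose stalks are generated by divisors of a power of the uniformiser. -/
theorem exists_eq_prod {ϖ : R} (hϖ : IsLocalRing.maximalIdeal R = Ideal.span {ϖ}) (hϖ0 : ϖ ≠ 0)
    (J : X.IdealSheafData) (hJ : ∀ (U : X.affineOpens) (x : X) (hx : x ∈ U.1),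
      ∃ (g : X.presheaf.stalk x) (N : ℕ), stI J U hx = Ideal.span {g} ∧ g ∣ pi p ϖ x ^ N) :
    ∃ v : Fin n → ℕ, J = ∏ i, comp Γ i ^ v i := by
  have key : ∀ (U : X.affineOpens) (x : X) (hx : x ∈ U.1), ∃ e : Fin n → ℕ,
      stI J U hx = ∏ i, stI (comp Γ i) U hx ^ e i := by
    intro U x hx
    haveI := S.isDomain_stalk x
    haveI := S.ufm_stalk x
    haveI := S.flat
    obtain ⟨g, N, hg, hd⟩ := hJ U x hx
    obtain ⟨e, he⟩ := exists_exponents (pi_ne_zero p hϖ0 x) (fun j => stI (comp Γ j) U hx)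
      (fun j hj => S.pi_mem hϖ U hx j hj) (S.incomparable U hx)
      (fun Q hQ hm => @exists_le_prime _ _ _ _ _ _ _ _ S _ hϖ U x hx Q hQ hm) hd
    exact ⟨e, hg.trans he⟩
  let v : Fin n → ℕ := fun i => (Module.length (X.presheaf.stalk (gp Γ i))
    (X.presheaf.stalk (gp Γ i) ⧸ stI J (exists_affine (gp Γ i)).choose (exists_affine (gp Γ i)).choose_spec)).toNat
  have indep : ∀ (U V : X.affineOpens) (y : X) (hU : y ∈ U.1) (hV : y ∈ V.1), stI J U hU = stI J V hV := by
    intro U V y hU hV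
    obtain ⟨_, ⟨W, hW, rfl⟩, hyW, hle⟩ := X.isBasis_affineOpens.exists_subset_of_mem_open
      (show y ∈ ((U.1 ⊓ V.1 : X.Opens) : Set X) from ⟨hU, hV⟩) (U.1 ⊓ V.1).2
    have e1 : ∀ (A : X.affineOpens) (hA : y ∈ A.1) (hl : W ≤ A.1), stI J A hA = stI J ⟨W, hW⟩ hyW := by
      intro A hA hl
      rw [stI, stI, ← J.map_ideal (V := A) (U := ⟨W, hW⟩) hl, Ideal.map_map]
      congr 1
      exact congrArg CommRingCat.Hom.hom (X.presheaf.germ_res (homOfLE hl) y hyW).symm
    rw [e1 U hU fun z hz => (hle hz).1, e1 V hV fun z hz => (hle hz).2]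
  refine ⟨v, ext_stI fun U x hx => ?_⟩
  obtain ⟨e, he⟩ := key U x hx
  rw [he, stI_prod]
  refine Finset.prod_congr rfl fun i _ => ?_
  rw [stI_pow]
  by_cases h : gp Γ i ⤳ x
  · congr 1
    have hU := h.mem_open U.1.2 hx
    have h1 := congrArg (Ideal.map (X.presheaf.stalkSpecializes h).hom) he
    rw [map_specializes h J U hx] at h1
    rw [← Ideal.mapHom_apply, map_prod] at h1
    simp only [map_pow, Ideal.mapHom_apply, S.map_toGp U hx h] at h1
    rw [Finset.prod_eq_single i (fun j _ hj => by rw [S.stI_comp_gp U i j, if_neg hj,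
      ← Ideal.one_eq_top, one_pow]) (fun h' => absurd (Finset.mem_univ i) h'), S.stI_comp_gp U i i, if_pos rfl,
      indep U (exists_affine (gp Γ i)).choose _ hU (exists_affine (gp Γ i)).choose_spec] at h1
    show e i = v i
    simp only [v]
    rw [h1, S.length_gp U i hU (e i)]
    rfl
  · rw [stI_of_not_specializes _ U hx h, ← Ideal.one_eq_top, one_pow, one_pow]

/-- The closed fibre is the divisor of the components with their multiplicities. -/
theorem specialFibreIdeal_eq : Models.specialFibreIdeal R (Over.mk p) =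
    ∏ i, comp Γ i ^ Models.mult R (Over.mk p) (Γ i) := by
  obtain ⟨ϖ, hϖ⟩ := IsDiscreteValuationRing.exists_irreducible R
  have hm := hϖ.maximalIdeal_eq
  obtain ⟨v, hv⟩ := S.exists_eq_prod hm hϖ.ne_zero (Models.specialFibreIdeal R (Over.mk p))
    fun U x hx => ⟨_, 1, stI_specialFibreIdeal p hm U hx, by rw [pow_one]⟩
  rw [hv]
  refine Finset.prod_congr rfl fun i _ => congrArg _ ?_
  obtain ⟨U, hU⟩ := exists_affine (gp Γ i)
  have h1 := congrArg (fun D => stI D U hU) hv
  simp only [S.stI_prod_gp U i hU, stI_specialFibreIdeal p hm U hU] at h1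
  show v i = (Module.length (X.presheaf.stalk (gp Γ i)) (X.presheaf.stalk (gp Γ i) ⧸
    Ideal.map (Models.stalkHom R (Over.mk p) (gp Γ i)) (IsLocalRing.maximalIdeal R))).toNat
  rw [hm, Ideal.map_span, Set.image_singleton,
    show Ideal.span {Models.stalkHom R (Over.mk p) (gp Γ i) ϖ} = _ from h1, S.length_gp U i hU]
  rfl

end Setting

end Groth.Agent.MdlInter
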