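import Groth.Agent.S2431
import Groth.Agent.FlatMisc.SteinUC
import Groth.Agent.RegLoc6.Basic
import Groth.Prelude.Def_Models
import Groth.Prelude.Def_Coh
import Mathlib.AlgebraicGeometry.Morphisms.Flat

/-! A regular proper flat scheme over a discrete valuation ring with constant generic functions has
only the constants as global functions. -/

noncomputable section

set_option linter.style.haveILetI false
set_option backward.isDefEq.respectTransparency false
set_option backward.isDefEq.respectTransparency.types false
set_option maxHeartbeats 1000000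

universe u

open CategoryTheory CategoryTheory.Limits AlgebraicGeometry TopologicalSpace

namespace Groth.Agent.MdlInter

variable {R : Type u} [CommRing R] [IsDomain R] [IsDiscreteValuationRing R] {C X : Scheme.{u}}

theorem bijective_toGlobal_of_model (f : C ⟶ Spec (CommRingCat.of (FractionRing R)))
    (p : X ⟶ Spec (CommRingCat.of R)) [IsProper p] [Flat p] (hreg : Models.IsRegularScheme X) (g : C ⟶ X)
    (hg : IsPullback g f p (Spec.map (CommRingCat.ofHom (algebraMap R (FractionRing R)))))
    (hC : Function.Bijective f.appTop) : Function.Bijective (Coh.toGlobal p) := by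
  haveI : IsReduced X :=
    @isReduced_of_isReduced_stalk X fun x => by
      haveI := hreg x
      haveI := RegLoc6.isDomain_of_isRegularLocalRing (X.presheaf.stalk x)
      infer_instance
  let σ := Spec.map (CommRingCat.ofHom (algebraMap R (FractionRing R)))
  let η : PrimeSpectrum R := ⟨⊥, Ideal.isPrime_bot⟩
  have hrange : Dense (Set.range g) := by
    rw [dense_iff_inter_open]
    intro O hO ⟨x, hx⟩
    have hle : η ≤ p x := bot_le (α := Ideal R)
    obtain ⟨x', hx', hpx'⟩ := Flat.generalizingMap p ((PrimeSpectrum.le_iff_specializes η (p x)).mp hle)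
    refine ⟨x', hx'.mem_open hO hx, ?_⟩
    have hσ : σ (IsLocalRing.closedPoint (FractionRing R)) = p x' := by
      rw [hpx']
      refine PrimeSpectrum.ext ?_
      show Ideal.comap (algebraMap R (FractionRing R)) (IsLocalRing.closedPoint (FractionRing R)).asIdeal = ⊥
      rw [show (IsLocalRing.closedPoint (FractionRing R)).asIdeal = ⊥ from IsLocalRing.maximalIdeal_eq_bot]
      exact Ideal.comap_bot_of_injective _ (IsFractionRing.injective R (FractionRing R))
    obtain ⟨z, hz, -⟩ := Scheme.Pullback.exists_preimage_pullback (f := p) (g := σ) x' _ hσ.symm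
    refine ⟨hg.isoPullback.inv z, ?_⟩
    rw [← hz]
    exact congrArg (fun h => h z) (congrArg (fun h : _ ⟶ X => (h : _ → X)) hg.isoPullback_inv_fst)
  have hinj : ∀ s : Γ(X, ⊤), g.appTop s = 0 → s = 0 := by
    intro s hs
    refine (basicOpen_eq_bot_iff s).mp ?_
    by_contra hne
    obtain ⟨_, ⟨z, rfl⟩, hz⟩ := hrange.exists_mem_open (X.basicOpen s).2
      ((TopologicalSpace.Opens.ne_bot_iff_nonempty _).mp hne)
    have : z ∈ C.basicOpen (g.appTop s) := (Scheme.preimage_basicOpen_top g s).le hz
    rw [hs, Scheme.basicOpen_zero] at this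
    exact this
  let φ : R → Γ(X, ⊤) := fun a => p.appTop ((Scheme.ΓSpecIso (CommRingCat.of R)).inv a)
  let ψ : FractionRing R → Γ(C, ⊤) := fun a => f.appTop ((Scheme.ΓSpecIso (CommRingCat.of (FractionRing R))).inv a)
  have hcomp : ∀ a, g.appTop (φ a) = ψ (algebraMap R (FractionRing R) a) := by
    intro a
    have h1 := congrArg (fun h : C ⟶ Spec (CommRingCat.of R) => h.appTop ((Scheme.ΓSpecIso (CommRingCat.of R)).inv a)) hg.w
    simp only [Scheme.Hom.comp_appTop, ConcreteCategory.comp_apply] at h1
    refine h1.trans (congrArg f.appTop ?_)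
    exact (ConcreteCategory.congr_hom (Scheme.ΓSpecIso_inv_naturality (CommRingCat.ofHom (algebraMap R (FractionRing R)))) a).symm
  have hψ : Function.Bijective ψ := hC.comp (ConcreteCategory.bijective_of_isIso (Scheme.ΓSpecIso _).inv)
  have hbij : Function.Bijective φ := by
    refine ⟨fun a b h => IsFractionRing.injective R (FractionRing R) (hψ.1 (by rw [← hcomp, ← hcomp, h])), fun s => ?_⟩
    obtain ⟨c, hc⟩ := hψ.2 (g.appTop s)
    let ψR : FractionRing R →+* Γ(C, ⊤) := f.appTop.hom.comp (Scheme.ΓSpecIso (CommRingCat.of (FractionRing R))).inv.hom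
    have hint : IsIntegral R c := by
      obtain ⟨P, hP, hPs⟩ := isIntegral_appTop_of_universallyClosed p s
      let e : Γ(Spec (CommRingCat.of R), ⊤) →+* R := (Scheme.ΓSpecIso (CommRingCat.of R)).hom.hom
      refine ⟨P.map e, hP.map e, hψ.1 ?_⟩
      show ψR (Polynomial.eval₂ (algebraMap R (FractionRing R)) c (P.map e)) = ψR 0
      rw [map_zero, Polynomial.eval₂_map, Polynomial.hom_eval₂, show ψR c = g.appTop s from hc]
      have hh : ψR.comp ((algebraMap R (FractionRing R)).comp e) = g.appTop.hom.comp p.appTop.hom := by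
        refine RingHom.ext fun a => ?_
        show ψ (algebraMap R (FractionRing R) ((Scheme.ΓSpecIso (CommRingCat.of R)).hom a)) = g.appTop (p.appTop a)
        rw [← hcomp]
        show g.appTop (p.appTop ((Scheme.ΓSpecIso (CommRingCat.of R)).inv ((Scheme.ΓSpecIso (CommRingCat.of R)).hom a))) = _
        rw [Iso.hom_inv_id_apply]
      rw [hh]
      show Polynomial.eval₂ (g.appTop.hom.comp p.appTop.hom) (g.appTop.hom s) P = 0
      rw [← Polynomial.hom_eval₂]
      simpa using congrArg g.appTop.hom hPs
    obtain ⟨r, hr⟩ := IsIntegrallyClosed.isIntegral_iff.mp hint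
    exact ⟨r, sub_eq_zero.mp (hinj _ (by rw [map_sub, hcomp, hr, show ψ c = g.appTop s from hc, sub_self]))⟩
  exact hbij

end Groth.Agent.MdlInter
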