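import Groth.Agent.MdlInter.Twist
import Groth.Agent.ZeroSchX.Basic
import Groth.Agent.H23.SeesawGlobal
import Groth.Agent.S4341

/-!
# Invertible modules trivial on the generic fibre
-/

set_option linter.style.haveILetI false
set_option linter.unusedSectionVars false
set_option backward.isDefEq.respectTransparency false
set_option backward.isDefEq.respectTransparency.types false
set_option maxHeartbeats 1000000

universe u

open CategoryTheory CategoryTheory.Limits AlgebraicGeometry TopologicalSpace Opposite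
open Groth.Agent.H23.PicMul
open scoped Groth.Agent.H23.PicMul

namespace Groth.Agent.MdlInter

open Groth.Agent
open Groth.Agent.DepthTwist (stI)

/-- An invertible module with a section cutting out a divisor is inverse to the ideal of the divisor. -/
theorem nonempty_tensor_idealMod {X : Scheme.{u}} {N : X.Modules} (J : X.IdealSheafData)
    (hJ : PicF.IsInvertible (ClSub.idealMod J)) (σ : Γ(N, ⊤))
    (hsec : ∀ x : X, ∃ (U : X.affineOpens) (_ : x ∈ U.1) (e : Γ(N, U.1)) (c : Γ(X, U.1)),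
      InvX.IsFrame e ∧ AModX.res N (le_top : U.1 ≤ ⊤) σ = c • e ∧ J.ideal U = Ideal.span {c} ∧
        ∀ (W : X.Opens) (h : W ≤ U.1) (r : Γ(X, W)), r * AModX.resR h c = 0 → r = 0) :
    Nonempty (CohB1.tensorMod N (ClSub.idealMod J) ≅ Coh.structureModule X) := by
  choose U hx e c he hc hJU hreg using hsec
  have hη : ∀ x, ∃ η : Γ(ClSub.idealMod J, (U x).1), InvX.IsFrame η ∧ OmegaSh.idealSect J (U x).1 η = c x := by
    intro x
    obtain ⟨η, hη⟩ := OmegaLib.exists_of_mem J (U x) (c x) (hJU x ▸ Ideal.mem_span_singleton_self _)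
    refine ⟨η, fun V hV => ⟨fun r r' h => ?_, fun z => ?_⟩, hη⟩
    · have h1 := congrArg (OmegaSh.idealSect J V) h
      simp only [OmegaLib.idealSect_smul] at h1
      rw [show OmegaSh.idealSect J V (AModX.res (ClSub.idealMod J) hV η) = AModX.resR hV (c x) from
        (OmegaLib.idealSect_map J hV η).trans (congrArg _ hη)] at h1
      exact sub_eq_zero.1 (hreg x V hV _ (by rw [sub_mul, h1, sub_self]))
    · have hloc : ∀ y ∈ V, ∃ W : X.affineOpens, y ∈ W.1 ∧ W.1 ≤ V := fun y hy => by
        obtain ⟨_, ⟨W, hW, rfl⟩, hyW, hle⟩ := X.isBasis_affineOpens.exists_subset_of_mem_open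
          (show y ∈ (V : Set X) from hy) V.2
        exact ⟨⟨W, hW⟩, hyW, hle⟩
      choose W hyW hWV using hloc
      have hr : ∀ y : V, ∃ r : Γ(X, (W y.1 y.2).1),
          OmegaSh.idealSect J (W y.1 y.2).1 (AModX.res _ (hWV y.1 y.2) z) =
            r * AModX.resR ((hWV y.1 y.2).trans hV) (c x) := by
        intro y
        have hm := OmegaLib.idealSect_mem J (W y.1 y.2) (AModX.res _ (hWV y.1 y.2) z)
        rw [← J.map_ideal (U := W y.1 y.2) (V := U x) ((hWV y.1 y.2).trans hV), hJU x, Ideal.map_span,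
          Set.image_singleton, Ideal.mem_span_singleton'] at hm
        obtain ⟨r, hr⟩ := hm
        exact ⟨r, hr.symm⟩
      choose r hr using hr
      obtain ⟨t, ht, -⟩ := X.sheaf.existsUnique_gluing' (fun y : V => (W y.1 y.2).1) V
        (fun y => homOfLE (hWV y.1 y.2)) (fun y hy => Opens.mem_iSup.2 ⟨⟨y, hy⟩, hyW y hy⟩) r (fun a b => by
          refine sub_eq_zero.1 (hreg x _ ((inf_le_left : (W a.1 a.2).1 ⊓ (W b.1 b.2).1 ≤ _).trans
            ((hWV a.1 a.2).trans hV)) _ ?_)
          have h1 := congrArg (AModX.resR (inf_le_left : (W a.1 a.2).1 ⊓ (W b.1 b.2).1 ≤ _)) (hr a)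
          have h2 := congrArg (AModX.resR (inf_le_right : (W a.1 a.2).1 ⊓ (W b.1 b.2).1 ≤ _)) (hr b)
          have m : ∀ (d : V) (hd : (W a.1 a.2).1 ⊓ (W b.1 b.2).1 ≤ (W d.1 d.2).1),
              AModX.resR hd (OmegaSh.idealSect J (W d.1 d.2).1 (AModX.res _ (hWV d.1 d.2) z)) =
                AModX.resR (hd.trans (hWV d.1 d.2)) (OmegaSh.idealSect J V z) := fun d hd => by
            rw [show OmegaSh.idealSect J (W d.1 d.2).1 (AModX.res _ (hWV d.1 d.2) z) =
              AModX.resR (hWV d.1 d.2) (OmegaSh.idealSect J V z) from OmegaLib.idealSect_map J _ z, AModX.resR_resR]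
          rw [map_mul, AModX.resR_resR, m] at h1 h2
          rw [sub_mul, sub_eq_zero]
          exact h1.symm.trans h2)
      refine ⟨(show Γ(X, V) from t), OmegaLib.idealSect_injective J V ?_⟩
      show OmegaSh.idealSect J V ((show Γ(X, V) from t) • AModX.res (ClSub.idealMod J) hV η) = _
      rw [OmegaLib.idealSect_smul, show OmegaSh.idealSect J V (AModX.res (ClSub.idealMod J) hV η) = AModX.resR hV (c x) from
        (OmegaLib.idealSect_map J hV η).trans (congrArg _ hη)]
      refine TopCat.Sheaf.eq_of_locally_eq' X.sheaf (fun y : V => (W y.1 y.2).1) V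
        (fun y => homOfLE (hWV y.1 y.2)) (fun y hy => Opens.mem_iSup.2 ⟨⟨y, hy⟩, hyW y hy⟩) _ _ fun y => ?_
      show AModX.resR (hWV y.1 y.2) ((show Γ(X, V) from t) * AModX.resR hV (c x)) = AModX.resR (hWV y.1 y.2) (OmegaSh.idealSect J V z)
      rw [map_mul, AModX.resR_resR, show AModX.resR (hWV y.1 y.2) (OmegaSh.idealSect J V z) =
        OmegaSh.idealSect J (W y.1 y.2).1 (AModX.res (ClSub.idealMod J) (hWV y.1 y.2) z) from (OmegaLib.idealSect_map J _ z).symm, hr y]
      congr 1
      exact ht y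
  choose η hηf hηc using hη
  let M := CohB1.tensorMod N (ClSub.idealMod J)
  have hfr : ∀ x, InvX.IsFrame (InvX.tmul (e x) (η x)) := fun x => InvX.isFrame_tmul (he x) (hηf x)
  let φ : M ⟶ Coh.structureModule X :=
    InvX.ofFrames (M := M) (N := Coh.structureModule X) (U := fun x => (U x).1)
      (e := fun x => InvX.tmul (e x) (η x)) (n := fun x => (1 : Γ(X, (U x).1))) (fun x => ⟨x, hx x⟩) hfr
      (fun a b W ha hb g hg => by
        obtain ⟨k, hk⟩ := (he a).exists_coord ha (AModX.res N hb (e b))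
        have hA := congrArg (AModX.res N ha) (hc a)
        have hB := congrArg (AModX.res N hb) (hc b)
        rw [AModX.res_res, AModX.res_smul] at hA hB
        rw [hk, ← mul_smul] at hB
        have hck : AModX.resR ha (c a) = AModX.resR hb (c b) * k := (he a).coord_unique ha (hA.symm.trans hB)
        have hηk : AModX.res (ClSub.idealMod J) ha (η a) = k • AModX.res (ClSub.idealMod J) hb (η b) := by
          refine OmegaLib.idealSect_injective J W ?_
          rw [OmegaLib.idealSect_smul,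
            show OmegaSh.idealSect J W (AModX.res (ClSub.idealMod J) ha (η a)) = AModX.resR ha (c a) from
              (OmegaLib.idealSect_map J ha _).trans (congrArg _ (hηc a)),
            show OmegaSh.idealSect J W (AModX.res (ClSub.idealMod J) hb (η b)) = AModX.resR hb (c b) from
              (OmegaLib.idealSect_map J hb _).trans (congrArg _ (hηc b)), hck, mul_comm]
        have hg1 : g = 1 := (hfr a).coord_unique ha (by
          refine Eq.trans hg.symm ?_
          rw [one_smul, InvX.res_tmul, InvX.res_tmul, hk, InvX.tmul_smul_left, hηk, InvX.tmul_smul_right])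
        rw [hg1, one_smul]
        exact (map_one (AModX.resR hb)).trans (map_one (AModX.resR ha)).symm)
  haveI : IsIso φ := DivX.isIso_of_frames φ fun x => by
    refine ⟨(U x).1, hx x, _, hfr x, ?_⟩
    rw [show φ.app (U x).1 (InvX.tmul (e x) (η x)) = (1 : Γ(X, (U x).1)) from InvX.ofFrames_app _ _ _ x]
    exact InvX.isFrame_one _
  exact ⟨asIso φ⟩

variable {R : Type u} [CommRing R] [IsDomain R] [IsDiscreteValuationRing R]
  {X : Scheme.{u}} {p : X ⟶ Spec (CommRingCat.of R)}

namespace Setting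

variable {n : ℕ} {Γ : Fin n → ArSurf.VertComp R (Over.mk p)} (S : Setting p Γ)
include S

/-- An invertible module trivial on the generic fibre is a combination of the components. -/
theorem exists_cl_eq [QuasiCompact p] [QuasiSeparated p] {C : Scheme.{u}}
    {f : C ⟶ Spec (CommRingCat.of (FractionRing R))} (g : C ⟶ X)
    (hg : IsPullback g f p (Spec.map (CommRingCat.ofHom (algebraMap R (FractionRing R)))))
    {N : X.Modules} (hN : PicF.IsInvertible N)
    (htriv : Nonempty ((Scheme.Modules.pullback g).obj N ≅ Coh.structureModule C)) :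
    ∃ a : Fin n → ℕ, PicF.cl N * PicF.cl (ClSub.idealMod (∏ i, comp Γ i ^ a i)) = 1 := by
  haveI := S.flat
  haveI := S.noeth
  obtain ⟨ϖ, hϖ⟩ := IsDiscreteValuationRing.exists_irreducible R
  have hm := hϖ.maximalIdeal_eq
  let σK := Spec.map (CommRingCat.ofHom (algebraMap R (FractionRing R)))
  haveI hloc : IsLocalization.Away ϖ (FractionRing R) := by
    refine ⟨?_, fun z => ?_, fun {a b} h => ⟨1, by rw [IsFractionRing.injective R (FractionRing R) h]⟩⟩
    · rintro ⟨_, k, rfl⟩
      exact IsUnit.mk0 _ ((map_ne_zero_iff _ (IsFractionRing.injective R (FractionRing R))).2 (pow_ne_zero k hϖ.ne_zero))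
    · obtain ⟨⟨a, s, hs⟩, hz⟩ := IsLocalization.surj (nonZeroDivisors R) z
      obtain ⟨k, u, rfl⟩ := IsDiscreteValuationRing.eq_unit_mul_pow_irreducible (nonZeroDivisors.ne_zero hs) hϖ
      refine ⟨⟨↑u⁻¹ * a, ϖ ^ k, k, rfl⟩, ?_⟩
      show z * algebraMap R _ (ϖ ^ k) = algebraMap R _ (↑u⁻¹ * a)
      rw [map_mul, ← hz, mul_left_comm, ← map_mul, Units.inv_mul_cancel_left]
  haveI : IsOpenImmersion σK := IsOpenImmersion.of_isLocalization ϖ
  haveI : IsOpenImmersion g := MorphismProperty.of_isPullback hg.flip (inferInstanceAs (IsOpenImmersion σK))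
  let ϖX : Γ(X, ⊤) := Coh.toGlobal p ϖ
  have hD : X.basicOpen ϖX = g.opensRange := by
    refine Opens.ext ?_
    have h1 : X.basicOpen ϖX = p ⁻¹ᵁ (PrimeSpectrum.basicOpen ϖ) :=
      ((congrArg (fun O => p ⁻¹ᵁ O) (basicOpen_eq_of_affine ϖ)).symm.trans (Scheme.preimage_basicOpen p _)).symm
    show (X.basicOpen ϖX : Set X) = Set.range g
    rw [h1]
    have h2 : Set.range g = Set.range (pullback.fst p σK) := by
      rw [← hg.isoPullback_hom_fst, Scheme.Hom.comp_base, TopCat.coe_comp, Set.range_comp,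
        hg.isoPullback.hom.surjective.range_eq, Set.image_univ]
    rw [h2, Scheme.Pullback.range_fst,
      show Set.range σK = (PrimeSpectrum.basicOpen ϖ : Set (PrimeSpectrum R)) from
        PrimeSpectrum.localization_away_comap_range (FractionRing R) ϖ]
    rfl
  obtain ⟨τ', hτ'⟩ := H23.SeesawGlobal.exists_frame_of_triv g htriv
  let τ : Γ(N, X.basicOpen ϖX) := AModX.res N hD.le τ'
  have hτ : InvX.IsFrame τ := hτ'.res _
  haveI : CompactSpace X := QuasiCompact.compactSpace_of_compactSpace p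
  haveI : QuasiSeparatedSpace X := quasiSeparatedSpace_of_quasiSeparated p
  haveI := (AmpleVan.isCoh_invertible hN).1
  obtain ⟨m, -, σ, hσ⟩ := S4341.result X ϖX N τ
  have hσD : InvX.IsFrame (AModX.res N (le_top : X.basicOpen ϖX ≤ ⊤) σ) := by
    rw [show AModX.res N (le_top : X.basicOpen ϖX ≤ ⊤) σ =
      (AModX.resR (le_top : X.basicOpen ϖX ≤ ⊤) ϖX) ^ m • τ from hσ]
    exact hτ.isUnit_smul ((AModX.isUnit_resR _ _ le_rfl).pow m)
  let s : Coh.structureModule X ⟶ N := InvX.ofSect σ
  have hsv : ∀ U : X.Opens, ZeroSchX.sv s U = AModX.res N (le_top : U ≤ ⊤) σ := fun U =>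
    (ZeroSchX.res_sv s (le_top : U ≤ ⊤)).symm.trans (congrArg _ (InvX.one_ofSect σ))
  let J := PicF2.zeroScheme N s
  have hframe : ∀ x : X, ∃ (U : X.affineOpens) (_ : x ∈ U.1) (e : Γ(N, U.1)) (c : Γ(X, U.1)),
      InvX.IsFrame e ∧ AModX.res N (le_top : U.1 ≤ ⊤) σ = c • e ∧ J.ideal U = Ideal.span {c} := by
    intro x
    obtain ⟨U₀, h₀, e₀, he₀⟩ := InvX.exists_frame hN x
    obtain ⟨U, hU, hxU, hle⟩ := exists_isAffineOpen_mem_and_subset h₀
    obtain ⟨c, hc⟩ := (he₀.res hle).exists_coord le_rfl (AModX.res N (le_top : U ≤ ⊤) σ)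
    rw [AModX.res_self] at hc
    exact ⟨⟨U, hU⟩, hxU, _, c, he₀.res hle, hc,
      (ZeroSchX.ideal_zeroScheme hN s ⟨U, hU⟩).trans
        (ZeroSchX.zeroIdealOn_eq_span s (he₀.res hle) ((hsv U).trans hc))⟩
  have hunit : ∀ (U : X.Opens) (e : Γ(N, U)) (c : Γ(X, U)), InvX.IsFrame e →
      AModX.res N (le_top : U ≤ ⊤) σ = c • e → ∀ (y : X) (hy : y ∈ U), y ∈ X.basicOpen ϖX →
      IsUnit (X.presheaf.germ U y hy c) := by
    intro U e c he hc y hy hyD
    let W := U ⊓ X.basicOpen ϖX
    obtain ⟨d, hd⟩ := (hσD.res (inf_le_right : W ≤ _)).exists_coord le_rfl (AModX.res N (inf_le_left : W ≤ U) e)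
    rw [AModX.res_self, AModX.res_res] at hd
    have h1 := congrArg (AModX.res N (inf_le_left : W ≤ U)) hc
    rw [AModX.res_res, AModX.res_smul, hd, ← mul_smul] at h1
    have h2 : AModX.resR (inf_le_left : W ≤ U) c * d = 1 := by
      refine (hσD.coord_unique (inf_le_right : W ≤ _) ?_)
      rw [one_smul, AModX.res_res]
      exact h1.symm
    have h3 := (IsUnit.of_mul_eq_one _ h2).map (X.presheaf.germ W y ⟨hy, hyD⟩).hom
    rwa [show (X.presheaf.germ W y ⟨hy, hyD⟩).hom (AModX.resR (inf_le_left : W ≤ U) c) =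
      X.presheaf.germ U y hy c from TopCat.Presheaf.germ_res_apply X.presheaf _ y _ c] at h3
  have hne : ∀ (U : X.affineOpens) (e : Γ(N, U.1)) (c : Γ(X, U.1)), InvX.IsFrame e →
      AModX.res N (le_top : U.1 ≤ ⊤) σ = c • e → ∀ (x : X) (hx : x ∈ U.1),
      X.presheaf.germ U.1 x hx c ≠ 0 ∧ ∃ N', X.presheaf.germ U.1 x hx c ∣ pi p ϖ x ^ N' := by
    intro U e c he hc x hx
    haveI := S.isDomain_stalk x
    have hrad : ∀ Q : Ideal (X.presheaf.stalk x), Q.IsPrime → X.presheaf.germ U.1 x hx c ∈ Q → pi p ϖ x ∈ Q := by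
      intro Q hQ hcQ
      by_contra hn
      let P : PrimeSpectrum Γ(X, U.1) := ⟨Q.comap (X.presheaf.germ U.1 x hx).hom, inferInstance⟩
      let y : X := U.2.fromSpec P
      have hyU : y ∈ U.1 := U.2.range_fromSpec.le ⟨P, rfl⟩
      have hyD : y ∈ X.basicOpen ϖX := by
        have h2 : P ∈ U.2.fromSpec ⁻¹ᵁ X.basicOpen (X.presheaf.map (homOfLE (le_top : U.1 ≤ ⊤)).op ϖX) := by
          rw [U.2.fromSpec_preimage_basicOpen]
          intro h
          apply hn
          rw [← pi_germ p ϖ U.1 hx]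
          exact h
        rw [Scheme.basicOpen_res] at h2
        exact h2.2
      have hu := hunit U.1 e c he hc y hyU hyD
      rw [← Scheme.mem_basicOpen _ _ _ hyU] at hu
      have h2 : P ∈ U.2.fromSpec ⁻¹ᵁ X.basicOpen c := hu
      rw [U.2.fromSpec_preimage_basicOpen] at h2
      exact h2 hcQ
    constructor
    · intro h0
      have := hrad ⊥ Ideal.isPrime_bot (h0 ▸ Submodule.zero_mem _)
      exact pi_ne_zero p hϖ.ne_zero x ((Submodule.mem_bot _).1 this)
    · have hmem : pi p ϖ x ∈ (Ideal.span {X.presheaf.germ U.1 x hx c}).radical := by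
        rw [Ideal.radical_eq_sInf, Ideal.mem_sInf]
        rintro Q ⟨hQ, hQ'⟩
        exact hrad Q hQ' ((Ideal.span_singleton_le_iff_mem _).1 hQ)
      obtain ⟨N', hN'⟩ := hmem
      exact ⟨N', Ideal.mem_span_singleton.1 hN'⟩
  have hst : ∀ (V : X.affineOpens) (x : X) (hx : x ∈ V.1), ∃ (g : X.presheaf.stalk x) (N' : ℕ),
      stI J V hx = Ideal.span {g} ∧ g ∣ pi p ϖ x ^ N' := by
    intro V x hx
    obtain ⟨U, hxU, e, c, he, hc, hJU⟩ := hframe x
    obtain ⟨-, N', hN'⟩ := hne U e c he hc x hxU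
    refine ⟨_, N', ?_, hN'⟩
    obtain ⟨_, ⟨W, hW, rfl⟩, hxW, hle⟩ := X.isBasis_affineOpens.exists_subset_of_mem_open
      (show x ∈ ((V.1 ⊓ U.1 : X.Opens) : Set X) from ⟨hx, hxU⟩) (V.1 ⊓ U.1).2
    have e1 : ∀ (A : X.affineOpens) (hA : x ∈ A.1) (hl : W ≤ A.1), stI J A hA = stI J ⟨W, hW⟩ hxW := by
      intro A hA hl
      rw [stI, stI, ← J.map_ideal (V := A) (U := ⟨W, hW⟩) hl, Ideal.map_map]
      congr 1
      exact congrArg CommRingCat.Hom.hom (X.presheaf.germ_res (homOfLE hl) x hxW).symm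
    rw [e1 V hx fun z hz => (hle hz).1, ← e1 U hxU fun z hz => (hle hz).2, stI, hJU, Ideal.map_span,
      Set.image_singleton]
  obtain ⟨a, ha⟩ := S.exists_eq_prod hm hϖ.ne_zero J hst
  have hJinv : PicF.IsInvertible (ClSub.idealMod J) := (S8914.result J).2 (ha ▸ S.isEffCartier_prod a)
  obtain ⟨iso⟩ := nonempty_tensor_idealMod J hJinv σ fun x => by
    obtain ⟨U, hxU, e, c, he, hc, hJU⟩ := hframe x
    refine ⟨U, hxU, e, c, he, hc, hJU, fun W hW r hr => ?_⟩
    refine TopCat.Presheaf.section_ext X.sheaf W r 0 fun y hy => ?_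
    haveI := S.isDomain_stalk y
    have h := congrArg (X.presheaf.germ W y hy) hr
    rw [map_mul, map_zero, show X.presheaf.germ W y hy (AModX.resR hW c) = X.presheaf.germ U.1 y (hW hy) c from
      TopCat.Presheaf.germ_res_apply X.presheaf _ y _ c] at h
    exact ((mul_eq_zero.1 h).resolve_right (hne U e c he hc y (hW hy)).1).trans (map_zero _).symm
  refine ⟨a, ?_⟩
  rw [← ha, ← cl_tensor, H23.PicMul.one_def]
  exact cl_eq_iff.2 ⟨iso⟩

end Setting

end Groth.Agent.MdlInter
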