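import Groth.Agent.MdlInter.Conn
import Groth.Agent.MdlInter.Global

/-!
# When two combinations of fibre components are linearly equivalent
-/

set_option linter.style.haveILetI false
set_option linter.unusedSectionVars false
set_option backward.isDefEq.respectTransparency false
set_option backward.isDefEq.respectTransparency.types false
set_option maxHeartbeats 1000000

universe u

open CategoryTheory CategoryTheory.Limits AlgebraicGeometry TopologicalSpace

namespace Groth.Agent.MdlInter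

open Groth.Agent
open Groth.Agent.DepthTwist (stI)

variable {R : Type u} [CommRing R] [IsDomain R] [IsDiscreteValuationRing R]
  {X : Scheme.{u}} {p : X ⟶ Spec (CommRingCat.of R)}

theorem span_mul_eq_of_app {A B : X.IdealSheafData} (e : ClSub.idealMod A ≅ ClSub.idealMod B)
    (k₀ : Γ(ClSub.idealMod A, ⊤)) (U : X.affineOpens) :
    Ideal.span {AModX.resR (le_top : U.1 ≤ ⊤) (OmegaSh.idealSect A ⊤ k₀)} * B.ideal U =
      Ideal.span {AModX.resR (le_top : U.1 ≤ ⊤) (OmegaSh.idealSect B ⊤ (e.hom.app ⊤ k₀))} * A.ideal U := by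
  let t := AModX.resR (le_top : U.1 ≤ ⊤) (OmegaSh.idealSect A ⊤ k₀)
  let s := AModX.resR (le_top : U.1 ≤ ⊤) (OmegaSh.idealSect B ⊤ (e.hom.app ⊤ k₀))
  have key : ∀ η : Γ(ClSub.idealMod A, U.1), t * OmegaSh.idealSect B U.1 (e.hom.app U.1 η) =
      s * OmegaSh.idealSect A U.1 η := by
    intro η
    have h1 : t • η = OmegaSh.idealSect A U.1 η • AModX.res (ClSub.idealMod A) (le_top : U.1 ≤ ⊤) k₀ := by
      refine OmegaLib.idealSect_injective A U.1 ?_
      rw [OmegaLib.idealSect_smul, OmegaLib.idealSect_smul,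
        show OmegaSh.idealSect A U.1 (AModX.res (ClSub.idealMod A) le_top k₀) = t from OmegaLib.idealSect_map A le_top k₀,
        mul_comm]
    have h2 := congrArg (fun z => OmegaSh.idealSect B U.1 (e.hom.app U.1 z)) h1
    simp only [Scheme.Modules.Hom.app_smul, OmegaLib.idealSect_smul] at h2
    rw [show OmegaSh.idealSect B U.1 (e.hom.app U.1 (AModX.res (ClSub.idealMod A) le_top k₀)) = s from by
      rw [AModX.app_res]
      exact OmegaLib.idealSect_map B le_top _] at h2
    rw [h2, mul_comm]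
  refine le_antisymm (Ideal.mul_le.2 ?_) (Ideal.mul_le.2 ?_)
  · intro a ha b hb
    obtain ⟨w, rfl⟩ := Ideal.mem_span_singleton'.1 ha
    obtain ⟨η, rfl⟩ := OmegaLib.exists_of_mem B U b hb
    have h3 : η = e.hom.app U.1 (e.inv.app U.1 η) := by
      rw [← ConcreteCategory.comp_apply, ← Scheme.Modules.Hom.comp_app, e.inv_hom_id]
      rfl
    rw [mul_assoc, h3]
    refine Ideal.mul_mem_left _ w ?_
    rw [key]
    exact Ideal.mul_mem_mul (Ideal.mem_span_singleton_self _) (OmegaLib.idealSect_mem A U _)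
  · intro a ha b hb
    obtain ⟨w, rfl⟩ := Ideal.mem_span_singleton'.1 ha
    obtain ⟨η, rfl⟩ := OmegaLib.exists_of_mem A U b hb
    rw [mul_assoc]
    refine Ideal.mul_mem_left _ w ?_
    rw [← key]
    exact Ideal.mul_mem_mul (Ideal.mem_span_singleton_self _) (OmegaLib.idealSect_mem B U _)

namespace Setting

variable {n : ℕ} {Γ : Fin n → ArSurf.VertComp R (Over.mk p)} (S : Setting p Γ)
include S

theorem exponents_of_iso (hglob : Function.Bijective (Coh.toGlobal p)) {a b : Fin n → ℕ}
    (e : ClSub.idealMod (∏ i, comp Γ i ^ a i) ≅ ClSub.idealMod (∏ i, comp Γ i ^ b i)) :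
    ∃ c : ℤ, ∀ i, (a i : ℤ) - (b i : ℤ) = c * (Models.mult R (Over.mk p) (Γ i) : ℤ) := by
  classical
  obtain ⟨ϖ, hϖ⟩ := IsDiscreteValuationRing.exists_irreducible R
  have hm := hϖ.maximalIdeal_eq
  let m : Fin n → ℕ := fun i => Models.mult R (Over.mk p) (Γ i)
  let k := ∑ i, a i
  let A := ∏ i, comp Γ i ^ a i
  let B := ∏ i, comp Γ i ^ b i
  have hd : ∏ i, comp Γ i ^ (k * m i) = A * ∏ i, comp Γ i ^ (k * m i - a i) := by
    rw [← Finset.prod_mul_distrib]
    refine Finset.prod_congr rfl fun i _ => ?_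
    rw [← pow_add, Nat.add_sub_cancel' ((Finset.single_le_sum (fun j _ => Nat.zero_le (a j))
      (Finset.mem_univ i)).trans (Nat.le_mul_of_pos_right k (S.mult_pos i)))]
  have hpow : ∀ k' : ℕ, Models.specialFibreIdeal R (Over.mk p) ^ k' = ∏ i, comp Γ i ^ (k' * m i) := fun k' => by
    rw [S.specialFibreIdeal_eq, ← Finset.prod_pow]
    exact Finset.prod_congr rfl fun i _ => by rw [← pow_mul, mul_comm]
  have hF : ∀ (k' : ℕ) (U : X.affineOpens), (Models.specialFibreIdeal R (Over.mk p) ^ k').ideal U =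
      Ideal.span {AModX.resR (le_top : U.1 ≤ ⊤) (Coh.toGlobal p (ϖ ^ k'))} := fun k' U => by
    rw [Scheme.IdealSheafData.ideal_pow, Pi.pow_apply, Models.specialFibreIdeal, MeroX.ideal_comap_idealSheaf, hm,
      Ideal.map_span, Set.image_singleton, Ideal.span_singleton_pow, map_pow, map_pow]
    rfl
  have hmem : ∀ U : X.affineOpens, AModX.resR (le_top : U.1 ≤ ⊤) (Coh.toGlobal p (ϖ ^ k)) ∈ A.ideal U := by
    intro U
    have h1 : AModX.resR (le_top : U.1 ≤ ⊤) (Coh.toGlobal p (ϖ ^ k)) ∈
        (Models.specialFibreIdeal R (Over.mk p) ^ k).ideal U := hF k U ▸ Ideal.mem_span_singleton_self _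
    rw [hpow k, hd, Scheme.IdealSheafData.ideal_mul, Pi.mul_apply] at h1
    exact Ideal.mul_le_left h1
  have hker : A.subschemeι.app ⊤ (Coh.toGlobal p (ϖ ^ k)) = 0 := by
    refine TopCat.Sheaf.eq_of_locally_eq' A.subscheme.sheaf
      (fun U : X.affineOpens => A.subschemeι ⁻¹ᵁ U.1) _ (fun U => homOfLE le_top) ?_ _ _ fun U => ?_
    · intro y _
      obtain ⟨U, hU⟩ := exists_affine (A.subschemeι y)
      exact Opens.mem_iSup.2 ⟨U, hU⟩
    · have h1 := hmem U
      rw [← A.ker_subschemeι_app, RingHom.mem_ker] at h1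
      rw [map_zero]
      exact (ConcreteCategory.congr_hom (A.subschemeι.naturality (homOfLE le_top).op) _).symm.trans h1
  obtain ⟨k₀, hk₀⟩ := OmegaLib.exists_idealSect_eq A ⊤ (Coh.toGlobal p (ϖ ^ k)) hker
  obtain ⟨r, hr⟩ := hglob.2 (OmegaSh.idealSect B ⊤ (e.hom.app ⊤ k₀))
  have hr0 : r ≠ 0 := by
    intro h0
    have hinj := OmegaLib.idealSect_injective B ⊤
    have h2 : e.hom.app ⊤ k₀ = 0 := hinj (by rw [← hr, h0, map_zero, map_zero])
    have h3 : k₀ = 0 := by
      have := congrArg (e.inv.app ⊤) h2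
      rw [map_zero, ← ConcreteCategory.comp_apply, ← Scheme.Modules.Hom.comp_app, e.hom_inv_id] at this
      exact this
    rw [h3, map_zero] at hk₀
    have h4 : ϖ ^ k = 0 := hglob.1 (by rw [← hk₀, map_zero])
    exact pow_ne_zero k hϖ.ne_zero h4
  obtain ⟨c, u, hu⟩ := IsDiscreteValuationRing.eq_unit_mul_pow_irreducible hr0 hϖ
  let F : X.IdealSheafData := Models.specialFibreIdeal R (Over.mk p)
  have hideal : F ^ k * B = F ^ c * A := by
    refine Scheme.IdealSheafData.ext (funext fun U => ?_)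
    have h := span_mul_eq_of_app e k₀ U
    rw [hk₀, ← hr] at h
    have hassoc : Associated r (ϖ ^ c) := by
      rw [hu]; exact (associated_isUnit_mul_left_iff u.isUnit).2 (Associated.refl _)
    have h' : Ideal.span {AModX.resR (le_top : U.1 ≤ ⊤) (Coh.toGlobal p r)} =
        Ideal.span {AModX.resR (le_top : U.1 ≤ ⊤) (Coh.toGlobal p (ϖ ^ c))} := by
      refine le_antisymm ?_ ?_ <;> rw [Ideal.span_singleton_le_span_singleton]
      · exact map_dvd _ (map_dvd _ hassoc.symm.dvd)
      · exact map_dvd _ (map_dvd _ hassoc.dvd)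
    replace h := h.trans (congrArg (· * A.ideal U) h')
    rw [Scheme.IdealSheafData.ideal_mul, Scheme.IdealSheafData.ideal_mul, Pi.mul_apply, Pi.mul_apply, hF, hF]
    exact h
  have h : (fun i => k * m i + b i) = fun i => c * m i + a i := by
    refine S.eq_of_prod_eq ?_
    simp only [pow_add, Finset.prod_mul_distrib, ← hpow]
    exact hideal
  refine ⟨(k : ℤ) - (c : ℤ), fun i => ?_⟩
  have hi : k * m i + b i = c * m i + a i := congrFun h i
  have hi' : (k : ℤ) * m i + b i = c * m i + a i := by exact_mod_cast hi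
  show (a i : ℤ) - b i = ((k : ℤ) - c) * (m i : ℤ)
  linear_combination -hi'

end Setting

end Groth.Agent.MdlInter
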